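import Cfsg.Agent.Lib.LocalEven.SpreadField.Subfield

/-!
The decomposition of a ring into semilinear parts relative to a finite subfield.
-/

set_option autoImplicit false
set_option linter.style.haveILetI false

namespace CfsgLib.LocalEven.SpreadField

open Polynomial

variable {R : Type*} [Ring R] {F : Type*} [Field F] [Fintype F] (ι : F →+* R)

/-- `y` is semilinear for the `k`-th power of the Frobenius. -/
def Comp (p k : ℕ) (y : R) : Prop := ∀ e : F, y * ι e = ι (e ^ p ^ k) * y

variable {ι} {p d : ℕ}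

omit [Fintype F] in
theorem Comp.add {k : ℕ} {y z : R} (hy : Comp ι p k y) (hz : Comp ι p k z) : Comp ι p k (y + z) := fun e => by
  rw [add_mul, hy e, hz e, mul_add]

omit [Fintype F] in
theorem Comp.mul {k l : ℕ} {y z : R} (hy : Comp ι p k y) (hz : Comp ι p l z) : Comp ι p (l + k) (y * z) :=
  fun e => by rw [mul_assoc, hz e, ← mul_assoc, hy, mul_assoc, ← pow_mul, ← pow_add]

omit [Fintype F] in
theorem Comp.left_mul {k : ℕ} {y : R} (hy : Comp ι p k y) (e' : F) : Comp ι p k (ι e' * y) := fun e => by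
  rw [mul_assoc, hy e, ← mul_assoc, ← mul_assoc, ← map_mul, ← map_mul, mul_comm e']

omit [Fintype F] in
theorem comp_of_image (e' : F) : Comp ι p 0 (ι e') := fun e => by
  rw [pow_zero, pow_one, ← map_mul, ← map_mul, mul_comm]

omit [Fintype F] in
theorem Comp.pow {k : ℕ} {y : R} (hy : Comp ι p k y) : ∀ n : ℕ, Comp ι p (n * k) (y ^ n)
  | 0 => fun e => by simp
  | n + 1 => by
    rw [pow_succ, add_mul, one_mul, add_comm]
    exact (Comp.pow hy n).mul hy

theorem pow_period (hc : Fintype.card F = p ^ d) (e : F) (k : ℕ) : e ^ p ^ (k % d) = e ^ p ^ k := by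
  conv_rhs => rw [← Nat.mod_add_div k d, pow_add, pow_mul p d, ← hc, mul_comm, pow_mul, FiniteField.pow_card_pow]

theorem Comp.congr (hc : Fintype.card F = p ^ d) {k l : ℕ} (hkl : k % d = l % d) {y : R} (hy : Comp ι p k y) :
    Comp ι p l y := fun e => by rw [hy e, ← pow_period hc e k, hkl, pow_period hc e l]

/-- A generator of the multiplicative group. -/
structure Gen (p d : ℕ) (a₀ : F) : Prop where
  prime : p.Prime
  pos : 1 ≤ d
  card : Fintype.card F = p ^ d
  ne : a₀ ≠ 0
  surj : ∀ e : F, e ≠ 0 → ∃ n : ℕ, a₀ ^ n = e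
  order : orderOf a₀ = p ^ d - 1

theorem exists_gen (hp : p.Prime) (hchar : CharP F p) : ∃ (d : ℕ) (a₀ : F), Gen p d a₀ := by
  classical
  obtain ⟨d, -, hd⟩ := FiniteField.card F p
  obtain ⟨g, hg⟩ := IsCyclic.exists_ofOrder_eq_natCard (α := Fˣ)
  refine ⟨d, (g : F), hp, d.pos, hd, g.ne_zero, fun e he => ?_, ?_⟩
  · have hmem : Units.mk0 e he ∈ Subgroup.zpowers g := by
      rw [(Subgroup.eq_top_of_card_eq (Subgroup.zpowers g) (by rw [Nat.card_zpowers, hg]))]
      exact Subgroup.mem_top _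
    obtain ⟨n, hn⟩ := (isOfFinOrder_of_finite g).mem_powers_iff_mem_zpowers.2 hmem
    exact ⟨n, by simpa using congrArg Units.val hn⟩
  · rw [orderOf_units, hg, Nat.card_units, Nat.card_eq_fintype_card, hd]

variable {a₀ : F}

omit [Fintype F] in
theorem comp_of_gen [Fintype F] (hg : Gen p d a₀) {k : ℕ} {y : R} (h : y * ι a₀ = ι (a₀ ^ p ^ k) * y) : Comp ι p k y := by
  intro e
  by_cases he : e = 0
  · subst he
    rw [map_zero, mul_zero, zero_pow (pow_ne_zero _ hg.prime.ne_zero), map_zero, zero_mul]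
  obtain ⟨n, rfl⟩ := hg.surj e he
  induction n with
  | zero => simp
  | succ n ih =>
    by_cases hn : a₀ ^ n = 0
    · exact absurd (pow_eq_zero_iff'.1 hn).1 hg.ne
    rw [pow_succ, map_mul, ← mul_assoc, ih hn, mul_assoc, h, ← mul_assoc, ← map_mul, ← mul_pow]

theorem frob_inj (hg : Gen p d a₀) {k l : ℕ} (hk : k < d) (hl : l < d) (hkl : a₀ ^ p ^ k = a₀ ^ p ^ l) :
    k = l := by
  have hlt : ∀ k < d, p ^ k < orderOf a₀ ∨ d = 1 := fun k hk => by
    by_cases hd1 : d = 1
    · exact Or.inr hd1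
    left
    rw [hg.order]
    have h2 : p ^ k ≤ p ^ (d - 1) := Nat.pow_le_pow_right hg.prime.pos (by omega)
    have h3 : p ^ d = p * p ^ (d - 1) := by rw [← pow_succ', show d - 1 + 1 = d by omega]
    have h4 : 2 * p ^ (d - 1) ≤ p ^ d := h3 ▸ Nat.mul_le_mul_right _ hg.prime.two_le
    have h5 : p ≤ p ^ (d - 1) := Nat.le_self_pow (by omega) p
    have := hg.prime.two_le
    omega
  rcases hlt k hk with h1 | h1 <;> rcases hlt l hl with h2 | h2
  · exact Nat.pow_right_injective hg.prime.two_le (pow_injOn_Iio_orderOf h1 h2 hkl)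
  all_goals omega

/-! ### Evaluation between two sides -/

/-- `Σ ι(cᵢ) b ι(a₀)ⁱ`. -/
noncomputable def Phi (a₀ : F) (b : R) : F[X] →+ R :=
  AddMonoidHom.mk' (fun f : F[X] => (f.sum fun i c => ι c * b * ι a₀ ^ i : R))
    (fun f g => Polynomial.sum_add_index f g (fun i c => ι c * b * ι a₀ ^ i) (fun i => by simp)
      (fun i x y => by simp [add_mul]))

omit [Fintype F] in
theorem Phi_monomial (b : R) (i : ℕ) (c : F) : Phi (ι := ι) a₀ b (monomial i c) = ι c * b * ι a₀ ^ i := by
  show ((monomial i c).sum fun i c => ι c * b * ι a₀ ^ i : R) = _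
  exact Polynomial.sum_monomial_index c (fun i c => ι c * b * ι a₀ ^ i) (by simp)

omit [Fintype F] in
theorem Phi_one (b : R) : Phi (ι := ι) a₀ b 1 = b := by
  rw [← monomial_zero_one, Phi_monomial]; simp

omit [Fintype F] in
theorem Phi_C_mul (b : R) (c : F) (f : F[X]) :
    Phi (ι := ι) a₀ b (C c * f) = ι c * Phi (ι := ι) a₀ b f := by
  induction f using Polynomial.induction_on' with
  | add f g hf hg => rw [mul_add, map_add, hf, hg, map_add, mul_add]
  | monomial i x => rw [C_mul_monomial, Phi_monomial, Phi_monomial, map_mul]; simp [mul_assoc]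

omit [Fintype F] in
theorem Phi_mul_X (b : R) (f : F[X]) : Phi (ι := ι) a₀ b (f * X) = Phi (ι := ι) a₀ b f * ι a₀ := by
  induction f using Polynomial.induction_on' with
  | add f g hf hg => rw [add_mul, map_add, hf, hg, map_add, add_mul]
  | monomial i x => rw [monomial_mul_X, Phi_monomial, Phi_monomial, pow_succ]; simp [mul_assoc]

omit [Fintype F] in
theorem Phi_eigen {b : R} {e : F} (h : b * ι a₀ = ι e * b) (f : F[X]) :
    Phi (ι := ι) a₀ b f = ι (f.eval e) * b := by
  induction f using Polynomial.induction_on' with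
  | add f g hf hg => rw [map_add, hf, hg, eval_add, map_add, add_mul]
  | monomial i x =>
    rw [Phi_monomial, eval_monomial, map_mul, map_pow, mul_assoc, mul_assoc]
    congr 1
    exact SemiconjBy.pow_right (show SemiconjBy b (ι a₀) (ι e) from h) i

omit [Fintype F] in
theorem Phi_sum {β : Type*} (s : Finset β) (b : β → R) (f : F[X]) :
    Phi (ι := ι) a₀ (∑ i ∈ s, b i) f = ∑ i ∈ s, Phi (ι := ι) a₀ (b i) f := by
  induction f using Polynomial.induction_on' with
  | add f g hf hg => simp only [map_add, hf, hg, Finset.sum_add_distrib]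
  | monomial i x => simp only [Phi_monomial, Finset.mul_sum, Finset.sum_mul]

omit [Fintype F] in
theorem Phi_prime [Fact p.Prime] [CharP F p] (b : R) (f : (ZMod p)[X]) :
    letI := ZMod.algebra F p
    Phi (ι := ι) a₀ b (f.map (algebraMap (ZMod p) F)) = b * ι (aeval a₀ f) := by
  letI := ZMod.algebra F p
  induction f using Polynomial.induction_on' with
  | add f g hf hg => rw [Polynomial.map_add, map_add, hf, hg, map_add, map_add, mul_add]
  | monomial i x =>
    rw [Polynomial.map_monomial, Phi_monomial, aeval_monomial, map_mul, map_pow,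
      ← ZMod.natCast_zmod_val x, map_natCast, map_natCast, (Nat.cast_commute x.val b).eq, mul_assoc]

theorem exponent_lemma {j i l : ℕ} (hp : p.Prime) (hj : j ≠ 0) (hjd : j < d) (hi : i < d) (hl : l < d)
    (h : 1 + p ^ j ≡ p ^ i + p ^ l [MOD p ^ d - 1]) : (i = 0 ∧ l = j) ∨ (i = j ∧ l = 0) := by
  have key : ∀ u v, u ≠ 0 → p ∣ p ^ u + p ^ v → v ≠ 0 := fun u v hu hdvd hv => by
    subst hv
    rw [pow_zero] at hdvd
    exact hp.not_dvd_one ((Nat.dvd_add_right (dvd_pow_self p hu)).1 hdvd)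
  have fin : 1 + p ^ j = p ^ i + p ^ l → (i = 0 ∧ l = j) ∨ (i = j ∧ l = 0) := fun e => by
    by_cases hi0 : i = 0
    · subst hi0
      left
      rw [pow_zero] at e
      exact ⟨rfl, Nat.pow_right_injective hp.two_le (show p ^ l = p ^ j by omega)⟩
    · by_cases hl0 : l = 0
      · subst hl0
        right
        rw [pow_zero] at e
        exact ⟨Nat.pow_right_injective hp.two_le (show p ^ i = p ^ j by omega), rfl⟩
      · exact absurd rfl (key j 0 hj (by
          rw [pow_zero, add_comm, e]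
          exact dvd_add (dvd_pow_self p hi0) (dvd_pow_self p hl0)))
  have hi' : p ^ i ≤ p ^ (d - 1) := Nat.pow_le_pow_right hp.pos (by omega)
  have hl' : p ^ l ≤ p ^ (d - 1) := Nat.pow_le_pow_right hp.pos (by omega)
  have hj' : p ^ j ≤ p ^ (d - 1) := Nat.pow_le_pow_right hp.pos (by omega)
  have hd : p ^ d = p * p ^ (d - 1) := by rw [← pow_succ', show d - 1 + 1 = d by omega]
  have h1 : 1 < p ^ j := Nat.one_lt_pow hj hp.one_lt
  have hlow : p ≤ p ^ (d - 1) := Nat.le_self_pow (by omega) p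
  rcases lt_or_eq_of_le (show p ≥ 2 from hp.two_le) with hp3 | hp2
  · have : 3 * p ^ (d - 1) ≤ p ^ d := by rw [hd]; exact Nat.mul_le_mul_right _ (by omega)
    exact fin (Nat.ModEq.eq_of_lt_of_lt h (by omega) (by omega))
  · subst hp2
    by_cases hd2 : d = 2
    · subst hd2
      obtain rfl : j = 1 := by omega
      rcases (show i = 0 ∨ i = 1 by omega) with rfl | rfl <;> rcases (show l = 0 ∨ l = 1 by omega) with rfl | rfl <;>
        simp_all [Nat.ModEq]
    · have hd4 : 4 ≤ 2 ^ (d - 1) := le_trans (by norm_num) (Nat.pow_le_pow_right (by norm_num) (show 2 ≤ d - 1 by omega))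
      by_cases hil : i = l
      · subst hil
        exfalso
        have e : 2 ^ i + 2 ^ i = 2 ^ (i + 1) := by rw [pow_succ]; ring
        rw [e] at h
        by_cases hid : i + 1 = d
        · rw [hid] at h
          have : 2 ^ d ≡ 1 [MOD 2 ^ d - 1] := ((Nat.modEq_iff_dvd' (by omega)).2 dvd_rfl).symm
          have := Nat.ModEq.eq_of_lt_of_lt (h.trans this) (by omega) (by omega)
          omega
        · have hlt : 2 ^ (i + 1) ≤ 2 ^ (d - 1) := Nat.pow_le_pow_right (by norm_num) (by omega)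
          have e2 := Nat.ModEq.eq_of_lt_of_lt h (by omega) (by omega)
          have : (2 : ℕ) ∣ 1 + 2 ^ j := e2 ▸ dvd_pow_self 2 (by omega)
          exact absurd ((Nat.dvd_add_left (dvd_pow_self 2 hj)).1 this) (by norm_num)
      · have hb : 2 * (2 ^ i + 2 ^ l) ≤ 3 * 2 ^ (d - 1) := by
          rcases lt_or_gt_of_ne hil with hlt | hlt
          · have : 2 * 2 ^ i ≤ 2 ^ (d - 1) := by
              rw [← pow_succ']; exact Nat.pow_le_pow_right (by norm_num) (by omega)
            omega
          · have : 2 * 2 ^ l ≤ 2 ^ (d - 1) := by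
              rw [← pow_succ']; exact Nat.pow_le_pow_right (by norm_num) (by omega)
            omega
        exact fin (Nat.ModEq.eq_of_lt_of_lt h (by omega) (by omega))

section Char
variable [Fact p.Prime] [CharP F p]

/-- Roots of a minimal polynomial are Frobenius images. -/
theorem exists_frob_of_root (hc : Fintype.card F = p ^ d) {x y : F}
    (h : letI := ZMod.algebra F p; aeval y (minpoly (ZMod p) x) = 0) :
    (∃ i < d, y = x ^ p ^ i) ∧ ∃ i < d, x = y ^ p ^ i := by
  letI := ZMod.algebra F p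
  have hc' : IsConjRoot (ZMod p) x y := isConjRoot_of_aeval_eq_zero (Algebra.IsIntegral.isIntegral x) h
  have hd : Module.finrank (ZMod p) F = d := by
    have := Module.card_eq_pow_finrank (K := ZMod p) (V := F)
    rw [hc, ZMod.card] at this
    exact (Nat.pow_right_injective (Fact.out : p.Prime).two_le this).symm
  have aux : ∀ u v : F, IsConjRoot (ZMod p) u v → ∃ i < d, u = v ^ p ^ i := by
    intro u v huv
    obtain ⟨σ, hσ⟩ := isConjRoot_iff_exists_algEquiv.1 huv
    obtain ⟨n, hn⟩ := (FiniteField.bijective_frobeniusAlgEquivOfAlgebraic_pow (ZMod p) F).2 σ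
    refine ⟨n, hd ▸ n.2, ?_⟩
    rw [← hσ, ← hn, AlgEquiv.coe_pow, FiniteField.coe_frobeniusAlgEquivOfAlgebraic_iterate, ZMod.card]
  exact ⟨aux y x hc'.symm, aux x y hc'⟩

/-- Every element is a sum of semilinear parts. -/
theorem exists_decomp (hg : Gen p d a₀) (b : R) :
    ∃ c : ℕ → R, (∀ k < d, Comp ι p k (c k)) ∧ b = ∑ k ∈ Finset.range d, c k := by
  classical
  letI := ZMod.algebra F p
  let c : F → R := fun e => Phi (ι := ι) a₀ b (Lagrange.basis Finset.univ id e)
  have hsum : ∑ e, c e = b := by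
    show ∑ e, Phi (ι := ι) a₀ b (Lagrange.basis Finset.univ id e) = b
    rw [← map_sum, Lagrange.sum_basis Function.injective_id.injOn Finset.univ_nonempty, Phi_one]
  have hnodal : ∏ e : F, (X - C e) = X ^ Fintype.card F - X := by
    have h1 := FiniteField.roots_X_pow_card_sub_X F
    have hq : 1 < Fintype.card F := Fintype.one_lt_card
    have hmon : (X ^ Fintype.card F - X : F[X]).Monic := monic_X_pow_sub (by rw [degree_X]; exact_mod_cast hq)
    have := prod_multiset_X_sub_C_of_monic_of_roots_card_eq hmon (by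
      rw [h1, FiniteField.X_pow_card_sub_X_natDegree_eq F hq]; rfl)
    rw [h1] at this
    exact this
  have hzero : Phi (ι := ι) a₀ b (X ^ Fintype.card F - X) = 0 := by
    rw [map_sub, ← monomial_one_right_eq_X_pow, ← monomial_one_one_eq_X, Phi_monomial, Phi_monomial, ← map_pow,
      ← map_pow, FiniteField.pow_card, pow_one, sub_self]
  have heig : ∀ e, c e * ι a₀ = ι e * c e := by
    intro e
    refine sub_eq_zero.1 ?_
    show Phi (ι := ι) a₀ b _ * ι a₀ - ι e * Phi (ι := ι) a₀ b _ = 0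
    rw [← Phi_mul_X, ← Phi_C_mul, ← map_sub, mul_comm _ X, ← sub_mul]
    have h2 : (X - C e) * Lagrange.basis Finset.univ id e =
        C (∏ j ∈ Finset.univ.erase e, (e - j)⁻¹) * (X ^ Fintype.card F - X) := by
      rw [← hnodal, ← Finset.mul_prod_erase Finset.univ _ (Finset.mem_univ e)]
      unfold Lagrange.basis Lagrange.basisDivisor
      simp only [id]
      rw [Finset.prod_mul_distrib, map_prod]
      ring
    rw [h2, Phi_C_mul, hzero, mul_zero]
  have hne : ∀ e, c e ≠ 0 → ∃ k < d, e = a₀ ^ p ^ k := by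
    intro e he
    refine (exists_frob_of_root (p := p) hg.card (x := a₀) (y := e) ?_).1
    by_contra h0
    refine he ?_
    have h1 := Phi_prime (ι := ι) (p := p) (a₀ := a₀) (c e) (minpoly (ZMod p) a₀)
    rw [minpoly.aeval, map_zero, mul_zero, Phi_eigen (heig e), eval_map_algebraMap] at h1
    exact ((isUnit_iff_ne_zero.2 h0).map ι).mul_right_eq_zero.1 h1
  refine ⟨fun k => c (a₀ ^ p ^ k), fun k _ => comp_of_gen hg (heig _), ?_⟩
  conv_lhs => rw [← hsum]
  have hinj : Set.InjOn (fun k => a₀ ^ p ^ k) (Finset.range d : Finset ℕ) := fun k hk l hl hkl =>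
    frob_inj hg (Finset.mem_range.1 hk) (Finset.mem_range.1 hl) hkl
  rw [← Finset.sum_image hinj]
  refine (Finset.sum_subset (Finset.subset_univ _) fun e _ he => ?_).symm
  by_contra hce
  obtain ⟨k, hk, rfl⟩ := hne e hce
  exact he (Finset.mem_image.2 ⟨k, Finset.mem_range.2 hk, rfl⟩)

omit [Fintype F] [Fact p.Prime] [CharP F p] in
/-- Semilinear parts for different twists are independent. -/
theorem comp_indep [Fintype F] (hg : Gen p d a₀) {β : Type*} [DecidableEq β] (s : Finset β) (n : β → ℕ) (y : β → R)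
    (hn : Set.InjOn (fun i => a₀ ^ p ^ n i) s) (hy : ∀ i ∈ s, Comp ι p (n i) (y i)) (h0 : ∑ i ∈ s, y i = 0)
    {i : β} (hi : i ∈ s) : y i = 0 := by
  classical
  have h1 : Phi (ι := ι) a₀ (∑ i ∈ s, y i) (Lagrange.basis s (fun i => a₀ ^ p ^ n i) i) = y i := by
    rw [Phi_sum, Finset.sum_eq_single i]
    · rw [Phi_eigen (hy i hi a₀), Lagrange.eval_basis_self hn hi, map_one, one_mul]
    · intro k hk hki
      rw [Phi_eigen (hy k hk a₀), Lagrange.eval_basis_of_ne (v := fun i => a₀ ^ p ^ n i) hki.symm hk, map_zero, zero_mul]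
    · exact fun h => absurd hi h
  rw [h0] at h1
  have hz : ∀ f : F[X], Phi (ι := ι) a₀ (0 : R) f = 0 := fun f =>
    (Phi_eigen (b := (0 : R)) (e := 0) (by simp) f).trans (mul_zero _)
  rw [hz] at h1
  exact h1.symm

/-! ### Projection onto a pair of twists -/

/-- `Σ nᵢ a₀ⁱ b a₀ⁱ` for a polynomial over the prime field. -/
noncomputable def Psi (p : ℕ) (a₀ : F) (N : (ZMod p)[X]) : R →+ R :=
  AddMonoidHom.mk' (fun b => ∑ i ∈ Finset.range (N.natDegree + 1), (N.coeff i).val • (ι a₀ ^ i * b * ι a₀ ^ i))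
    fun x y => by simp only [mul_add, add_mul, nsmul_add, Finset.sum_add_distrib]

omit [Fintype F] in
theorem Psi_comp {k : ℕ} {y : R} (hy : Comp ι p k y) (N : (ZMod p)[X]) :
    letI := ZMod.algebra F p
    Psi (ι := ι) p a₀ N y = ι (aeval (a₀ * a₀ ^ p ^ k) N) * y := by
  letI := ZMod.algebra F p
  show ∑ i ∈ Finset.range (N.natDegree + 1), (N.coeff i).val • (ι a₀ ^ i * y * ι a₀ ^ i) = _
  rw [aeval_eq_sum_range, map_sum, Finset.sum_mul]
  refine Finset.sum_congr rfl fun i _ => ?_
  rw [mul_assoc, ← map_pow, hy, ← mul_assoc, ← map_mul, Algebra.smul_def (N.coeff i), map_mul]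
  conv_rhs => rw [← ZMod.natCast_zmod_val (N.coeff i), map_natCast, map_mul, map_natCast]
  rw [nsmul_eq_mul, ← mul_assoc, mul_pow a₀, map_mul, ← pow_mul, ← pow_mul, mul_comm i]

omit [Fintype F] in
theorem Psi_mem {A B : AddSubgroup R} [Nontrivial R] (h : CfsgLib.LocalEven.PushUp.InvPair A B)
    (hA : ∀ e, ι e ∈ A) {b : R} (hb : b ∈ A) (N : (ZMod p)[X]) : Psi (ι := ι) p a₀ N b ∈ A := by
  show ∑ i ∈ Finset.range (N.natDegree + 1), (N.coeff i).val • (ι a₀ ^ i * b * ι a₀ ^ i) ∈ A
  refine AddSubgroup.sum_mem _ fun i _ => A.nsmul_mem ?_ _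
  rw [← map_pow]
  exact h.triple_mem (hA _) hb

/-- The polynomial killing all twists but two. -/
noncomputable def pairPoly (p d : ℕ) [Fact p.Prime] [CharP F p] (a₀ : F) (j : ℕ) : (ZMod p)[X] :=
  letI := ZMod.algebra F p
  ∏ k ∈ (Finset.range d).filter (fun k => k ≠ j ∧ (k + j) % d ≠ 0), minpoly (ZMod p) (a₀ * a₀ ^ p ^ k)

theorem pairPoly_zero {j k : ℕ} (hk : k < d) (h1 : k ≠ j) (h2 : (k + j) % d ≠ 0) :
    letI := ZMod.algebra F p
    aeval (a₀ * a₀ ^ p ^ k) (pairPoly p d a₀ j) = 0 := by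
  letI := ZMod.algebra F p
  simp only [pairPoly]
  rw [map_prod]
  exact Finset.prod_eq_zero (Finset.mem_filter.2 ⟨Finset.mem_range.2 hk, h1, h2⟩) (minpoly.aeval _ _)

theorem pairPoly_ne {j k : ℕ} (hg : Gen p d a₀) (hj : j < d) (hk : k = j ∨ (k < d ∧ (k + j) % d = 0)) :
    letI := ZMod.algebra F p
    aeval (a₀ * a₀ ^ p ^ k) (pairPoly p d a₀ j) ≠ 0 := by
  letI := ZMod.algebra F p
  simp only [pairPoly]
  rw [map_prod]
  refine Finset.prod_ne_zero_iff.2 fun l hl h0 => ?_
  obtain ⟨hl, hlj, hlj'⟩ := Finset.mem_filter.1 hl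
  rw [Finset.mem_range] at hl
  have hkd : k < d := by rcases hk with rfl | ⟨h, -⟩ <;> assumption
  obtain ⟨⟨i, hi, e1⟩, ⟨i', hi', e2⟩⟩ := exists_frob_of_root (p := p) hg.card h0
  have conv : ∀ {u v i : ℕ}, a₀ * a₀ ^ p ^ u = (a₀ * a₀ ^ p ^ v) ^ p ^ i →
      1 + p ^ u ≡ p ^ i + p ^ ((v + i) % d) [MOD p ^ d - 1] := by
    intro u v i e
    rw [← hg.order]
    refine (IsOfFinOrder.pow_eq_pow_iff_modEq ?_).1 ?_
    · exact isOfFinOrder_iff_pow_eq_one.2 ⟨p ^ d - 1, by
        have := Nat.one_lt_pow (Nat.one_le_iff_ne_zero.1 hg.pos) hg.prime.one_lt; omega,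
        hg.order ▸ pow_orderOf_eq_one a₀⟩
    · rw [pow_add, pow_one, pow_add, e, mul_pow, pow_period hg.card, ← pow_mul, ← pow_add]
      rw [pow_add, pow_add]
  rcases Nat.eq_zero_or_pos k with hk0 | hk0
  · -- the twist `k` is trivial
    have hl0 : l ≠ 0 := by
      rintro rfl
      rcases hk with rfl | ⟨-, h⟩
      · exact hlj hk0.symm
      · rw [hk0, zero_add] at h; exact hlj' (by rwa [zero_add])
    rcases exponent_lemma hg.prime hl0 hl hi' (Nat.mod_lt _ (by omega)) (conv e2) with ⟨rfl, h⟩ | ⟨rfl, h⟩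
    · rw [hk0, add_zero, Nat.zero_mod] at h; exact hl0 h.symm
    · rw [hk0, zero_add, Nat.mod_eq_of_lt hl] at h; exact hl0 h
  · rcases exponent_lemma hg.prime hk0.ne' hkd hi (Nat.mod_lt _ (by omega)) (conv e1) with ⟨rfl, h⟩ | ⟨rfl, h⟩
    · rw [add_zero, Nat.mod_eq_of_lt hl] at h
      subst h
      rcases hk with rfl | ⟨-, h⟩
      · exact hlj rfl
      · exact hlj' h
    · rcases hk with rfl | ⟨-, hkj⟩
      · exact hlj' h
      · refine hlj ?_
        have e : (l + i) % d = (j + i) % d := by rw [h, add_comm j, hkj]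
        have := (Nat.ModEq.add_right_cancel' i (show l + i ≡ j + i [MOD d] from e))
        rwa [Nat.ModEq, Nat.mod_eq_of_lt hl, Nat.mod_eq_of_lt hj] at this

end Char

end CfsgLib.LocalEven.SpreadField
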