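import Cfsg.Agent.Lib.LocalEven.SpreadField.Cyclic
import Cfsg.Agent.Lib.LocalEven.SpreadField.Decomp

/-!
The twisted cyclic determinant takes its values in the fixed field of the twist, and so vanishes
nontrivially.
-/

set_option autoImplicit false
set_option linter.style.haveILetI false
set_option linter.unusedSectionVars false

namespace CfsgLib.LocalEven.SpreadField

variable {F : Type*} [Field F] [Fintype F] {L : Type*} [Field L] {p d : ℕ} [Fact p.Prime] [CharP F p]
  {a₀ : F} {j k m : ℕ} [NeZero m]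

/-- The data of the twisted cycle. -/
structure Cycle (p d : ℕ) (a₀ : F) (j k m : ℕ) [NeZero m] (ιL : F →+* L) (u' T Q : F) (W₀ : L) : Prop where
  gen : Gen p d a₀
  m2 : 2 ≤ m
  inv : (j + k) % d = 0
  period : (m * j) % d = 0
  inj : ∀ i < m, ∀ l < m, (i * j) % d = (l * j) % d → i = l
  fixT : T ^ p ^ j = T
  fixQ : Q ^ p ^ j = Q
  norm : ∏ i ∈ Finset.range m, (u' ^ p ^ j) ^ p ^ (i * j) = Q
  root : W₀ * W₀ - ιL T * W₀ + ιL Q = 0
  ne : W₀ ≠ 0

namespace Cycle

variable {ιL : F →+* L} {u' T Q : F} {W₀ : L} (C : Cycle p d a₀ j k m ιL u' T Q W₀)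
include C

theorem pow_congr {x y : ℕ} (h : (x : ZMod d) = y) (e : F) : e ^ p ^ x = e ^ p ^ y := by
  rw [← pow_period C.gen.card e x, ← pow_period C.gen.card e y, (ZMod.natCast_eq_natCast_iff' x y d).1 h]

theorem k_cast : (k : ZMod d) = -(j : ZMod d) := by
  refine eq_neg_of_add_eq_zero_right ?_
  rw [← Nat.cast_add, ← Nat.cast_zero]
  exact (ZMod.natCast_eq_natCast_iff' _ _ _).2 (by rw [C.inv, Nat.zero_mod])

theorem m_cast : (m : ZMod d) * j = 0 := by
  rw [← Nat.cast_mul, ← Nat.cast_zero]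
  exact (ZMod.natCast_eq_natCast_iff' _ _ _).2 (by rw [C.period, Nat.zero_mod])

theorem fix_iter {t : F} (ht : t ^ p ^ j = t) : ∀ n : ℕ, t ^ p ^ (n * j) = t
  | 0 => by simp
  | n + 1 => by rw [add_mul, one_mul, pow_add, pow_mul, fix_iter ht n, ht]

theorem fix_any {t : F} (ht : t ^ p ^ j = t) (i : ℕ) : t ^ p ^ (i * k) = t := by
  rw [C.pow_congr (x := i * k) (y := (i * (m - 1)) * j) (by
    push_cast [Nat.cast_sub (show 1 ≤ m by have := C.m2; omega), C.k_cast]
    linear_combination -(i : ZMod d) * C.m_cast) t, C.fix_iter ht]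

/-- The forward weights. -/
def fwd (_C : Cycle p d a₀ j k m ιL u' T Q W₀) (i : Fin m) : L := if (i : ℕ) + 1 < m then 1 else W₀

/-- The products of the weights. -/
def prd (_C : Cycle p d a₀ j k m ιL u' T Q W₀) (i : Fin m) : L := ιL (u' ^ p ^ ((i : ℕ) * k))

/-- The backward weights. -/
def bwd (i : Fin m) : L := C.prd i / C.fwd i

/-- The matrix of a member. -/
def mat (a t : F) : Matrix (Fin m) (Fin m) L :=
  cycM (fun i => ιL (a ^ p ^ ((i : ℕ) * k))) C.fwd C.bwd (ιL t)

theorem fwd_ne (i : Fin m) : C.fwd i ≠ 0 := by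
  unfold Cycle.fwd; split_ifs
  exacts [one_ne_zero, C.ne]

theorem fwd_mul_bwd (i : Fin m) : C.fwd i * C.bwd i = C.prd i := mul_div_cancel₀ _ (C.fwd_ne i)

theorem prod_fwd : ∏ i, C.fwd i = W₀ := by
  have hm := C.m2
  rw [Finset.prod_eq_single (⟨m - 1, by omega⟩ : Fin m)]
  · unfold Cycle.fwd; rw [if_neg (by dsimp only; omega)]
  · intro i _ hi
    unfold Cycle.fwd
    rw [if_pos]
    have := i.2
    have : (i : ℕ) ≠ m - 1 := fun e => hi (Fin.ext e)
    omega
  · exact fun h => absurd (Finset.mem_univ _) h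

theorem prod_prd : ∏ i, C.prd i = ιL Q := by
  unfold Cycle.prd
  rw [← map_prod, ← C.norm, Fin.prod_univ_eq_prod_range (fun i => u' ^ p ^ (i * k)),
    ← Finset.prod_range_reflect (fun i => u' ^ p ^ (i * k)) m]
  congr 1
  refine Finset.prod_congr rfl fun i hi => ?_
  rw [← pow_mul, ← pow_add]
  refine C.pow_congr ?_ u'
  rw [Finset.mem_range] at hi
  push_cast [Nat.cast_sub (show i ≤ m - 1 by omega), Nat.cast_sub (show 1 ≤ m by omega), C.k_cast]
  linear_combination -C.m_cast

variable [CharP L p]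

/-- A power of the Frobenius that rotates the cycle fixes the determinant. -/
theorem det_fixed (a : F) {t : F} (ht : t ^ p ^ j = t) (N : ℕ) (q : Fin m)
    (hq : ∀ i : Fin m, ((i : ℕ) : ZMod d) * k + N = (((i + q : Fin m) : ℕ) : ZMod d) * k)
    (hfix : ∀ e : F, e ^ p ^ j = e → e ^ p ^ N = e) :
    (C.mat a t).det ^ p ^ N = (C.mat a t).det := by
  classical
  let φ : L →+* L := iterateFrobenius L p N
  have hφ : ∀ x, φ x = x ^ p ^ N := fun x => iterateFrobenius_def (R := L) p N x
  have hφι : ∀ e, φ (ιL e) = ιL (e ^ p ^ N) := fun e => by rw [hφ, map_pow]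
  have hrot : ∀ (e : F) (i : Fin m), φ (ιL (e ^ p ^ ((i : ℕ) * k))) = ιL (e ^ p ^ (((i + q : Fin m) : ℕ) * k)) := by
    intro e i
    rw [hφι, ← pow_mul, ← pow_add]
    congr 1
    exact C.pow_congr (by push_cast; exact hq i) e
  rw [← hφ, RingHom.map_det]
  show ((cycM _ _ _ _).map φ).det = _
  rw [map_cycM]
  simp only [hrot, hφι t, hfix t ht]
  set α : Fin m → L := fun i => ιL (a ^ p ^ ((i : ℕ) * k)) with hα
  show (cycM (fun i => α (i + q)) (fun i => φ (C.fwd i)) (fun i => φ (C.bwd i)) (ιL t)).det = (cycM α C.fwd C.bwd (ιL t)).det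
  have hrs : ∀ i, φ (C.fwd i) * φ (C.bwd i) = C.fwd (i + q) * C.bwd (i + q) := fun i => by
    rw [← map_mul, C.fwd_mul_bwd, C.fwd_mul_bwd]
    exact hrot u' i
  have hne : ∀ i, φ (C.fwd i) ≠ 0 := fun i => (map_ne_zero φ).2 (C.fwd_ne i)
  have hpr : ∏ i, φ (C.fwd i) = φ W₀ := by rw [← map_prod, C.prod_fwd]
  have hsh : ∀ f : Fin m → L, ∏ i, f (i + q) = ∏ i, f i := fun f => Equiv.prod_comp (Equiv.addRight q) f
  have hroot : φ W₀ * φ W₀ - ιL T * φ W₀ + ιL Q = 0 := by
    have h := congrArg φ C.root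
    rwa [map_add, map_sub, map_mul, map_mul, hφι, hφι, hfix T C.fixT, hfix Q C.fixQ, map_zero] at h
  have hfac : (φ W₀ - W₀) * (φ W₀ + W₀ - ιL T) = 0 := by linear_combination hroot - C.root
  rcases mul_eq_zero.1 hfac with h1 | h1
  · rw [det_cycM_eq_of_prod _ _ _ (fun i => C.fwd (i + q)) (fun i => C.bwd (i + q)) _ hne
      (fun i => C.fwd_ne _) hrs (by rw [hpr, hsh, C.prod_fwd, sub_eq_zero.1 h1]), det_cycM_shift α]
  · have hW : W₀ * φ W₀ = ιL Q := by linear_combination W₀ * h1 - C.root
    have hQ : ιL Q ≠ 0 := hW ▸ mul_ne_zero C.ne ((map_ne_zero φ).2 C.ne)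
    have hpne : ∀ i, C.prd i ≠ 0 := fun i h0 => hQ (by
      rw [← C.prod_prd]; exact Finset.prod_eq_zero (Finset.mem_univ i) h0)
    have hbne : ∀ i, C.bwd i ≠ 0 := fun i => div_ne_zero (hpne i) (C.fwd_ne i)
    have hpb : ∏ i, C.bwd i = φ W₀ := by
      unfold Cycle.bwd
      rw [Finset.prod_div_distrib, C.prod_prd, C.prod_fwd, ← hW, mul_div_cancel_left₀ _ C.ne]
    rw [det_cycM_eq_of_prod _ _ _ (fun i => C.bwd (i + q)) (fun i => C.fwd (i + q)) _ hne
      (fun i => hbne _) (fun i => by rw [hrs, mul_comm]) (by rw [hpr, hsh, hpb]), det_cycM_swap, det_cycM_shift α]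

/-- The values of the determinant are fixed by the twist. -/
theorem det_mem (a : F) {t : F} (ht : t ^ p ^ j = t) :
    ∃ e : F, e ^ p ^ j = e ∧ ιL e = (C.mat a t).det := by
  classical
  have hm := C.m2
  have h1 : (C.mat a t).det ^ p ^ j = (C.mat a t).det := by
    refine C.det_fixed a ht j ⟨m - 1, by omega⟩ (fun i => ?_) (fun e he => he)
    rw [Fin.val_add]
    dsimp only
    rcases Nat.eq_zero_or_pos (i : ℕ) with h0 | h0
    · rw [h0, zero_add, Nat.mod_eq_of_lt (by omega)]
      push_cast [Nat.cast_sub (show 1 ≤ m by omega), C.k_cast]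
      linear_combination C.m_cast
    · rw [show (i : ℕ) + (m - 1) = ((i : ℕ) - 1) + m by omega, Nat.add_mod_right, Nat.mod_eq_of_lt (by omega)]
      push_cast [Nat.cast_sub (show 1 ≤ (i : ℕ) from h0), C.k_cast]
      ring
  have h2 : (C.mat a t).det ^ p ^ d = (C.mat a t).det := by
    refine C.det_fixed a ht d 0 (fun i => by simp) (fun e _ => ?_)
    rw [← C.gen.card, FiniteField.pow_card]
  obtain ⟨e, he⟩ : ∃ e : F, ιL e = (C.mat a t).det := by
    by_contra hne
    push Not at hne
    have hq : 1 < p ^ d := C.gen.card ▸ Fintype.one_lt_card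
    have h3 := Polynomial.card_le_degree_of_subset_roots (p := (Polynomial.X ^ p ^ d - Polynomial.X : Polynomial L))
      (Z := insert (C.mat a t).det (Finset.univ.image ιL)) (fun x hx => by
        rw [Polynomial.mem_roots (FiniteField.X_pow_card_sub_X_ne_zero L hq)]
        rcases Finset.mem_insert.1 hx with rfl | hx
        · simp [h2]
        · obtain ⟨e, -, rfl⟩ := Finset.mem_image.1 hx
          simp [← map_pow, ← C.gen.card, FiniteField.pow_card])
    rw [Finset.card_insert_of_notMem (by simpa using hne), Finset.card_image_of_injective _ ιL.injective,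
      FiniteField.X_pow_card_sub_X_natDegree_eq L hq, Finset.card_univ, C.gen.card] at h3
    omega
  refine ⟨e, ιL.injective ?_, he⟩
  rw [map_pow, he, h1]

open MvPolynomial in
/-- Some nonzero member has vanishing determinant. -/
theorem exists_det_zero : ∃ a t : F, t ^ p ^ j = t ∧ (a ≠ 0 ∨ t ≠ 0) ∧ (C.mat a t).det = 0 := by
  classical
  let σ : F →+* F := iterateFrobenius F p j
  let K : Subfield F := σ.eqLocusField (RingHom.id F)
  have hK : ∀ x : F, x ∈ K ↔ x ^ p ^ j = x := fun x => Iff.rfl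
  letI : Algebra ↥K L := (ιL.comp K.subtype).toAlgebra
  haveI : Fintype ↥K := Fintype.ofFinite _
  -- the degree of the field over the fixed field
  let f : Fin m → (F →ₐ[↥K] F) := fun i =>
    { toRingHom := iterateFrobenius F p ((i : ℕ) * j)
      commutes' := fun x => C.fix_iter ((hK x).1 x.2) i }
  have hf : Function.Injective f := fun i l h => Fin.ext (C.inj i i.2 l l.2 (by
    have h1 : a₀ ^ p ^ ((i : ℕ) * j) = a₀ ^ p ^ ((l : ℕ) * j) := DFunLike.congr_fun h a₀
    rw [← pow_period C.gen.card, ← pow_period C.gen.card a₀ ((l : ℕ) * j)] at h1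
    exact frob_inj C.gen (Nat.mod_lt _ C.gen.pos) (Nat.mod_lt _ C.gen.pos) h1))
  have hfin : m ≤ Module.finrank ↥K F := by
    refine le_trans ?_ (card_algHom_le_finrank ↥K F F)
    simpa using Nat.card_le_card_of_injective f hf
  let bF := Module.finBasis ↥K F
  let n := Module.finrank ↥K F
  let αP : Fin m → MvPolynomial (Option (Fin n)) L := fun i =>
    ∑ q, MvPolynomial.C (ιL ((bF q) ^ p ^ ((i : ℕ) * k))) * MvPolynomial.X (some q)
  let P : MvPolynomial (Option (Fin n)) L :=
    (cycM αP (fun i => MvPolynomial.C (C.fwd i)) (fun i => MvPolynomial.C (C.bwd i)) (MvPolynomial.X none)).det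
  have hev : ∀ x : Option (Fin n) → ↥K, eval (fun i => algebraMap ↥K L (x i)) P =
      (C.mat (∑ q, x (some q) • bF q) (x none)).det := by
    intro x
    simp only [P, RingHom.map_det]
    show ((cycM _ _ _ _).map _).det = (cycM _ _ _ _).det
    rw [map_cycM]
    congr 2
    · funext i
      simp only [αP, map_sum, map_mul, eval_C, eval_X]
      have h1 : (∑ q, x (some q) • bF q) ^ p ^ ((i : ℕ) * k) =
          ∑ q, (x (some q) : F) * (bF q) ^ p ^ ((i : ℕ) * k) := by
        rw [← iterateFrobenius_def (R := F) p, map_sum]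
        refine Finset.sum_congr rfl fun q _ => ?_
        rw [iterateFrobenius_def, Subfield.smul_def, smul_eq_mul, mul_pow, C.fix_any ((hK _).1 (x (some q)).2)]
      rw [h1, map_sum]
      refine Finset.sum_congr rfl fun q _ => ?_
      rw [map_mul, mul_comm]
      rfl
    · funext i; exact eval_C _
    · funext i; exact eval_C _
    · exact eval_X _
  have hdeg : P.totalDegree < Fintype.card (Option (Fin n)) := by
    have h1 : P.totalDegree ≤ m := by
      refine (totalDegree_det_le _ fun i l => ?_).trans (Fintype.card_fin m).le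
      have hX : ∀ (y : L), (MvPolynomial.X none * MvPolynomial.C y : MvPolynomial (Option (Fin n)) L).totalDegree ≤ 1 :=
        fun y => (totalDegree_mul _ _).trans (by rw [totalDegree_X, totalDegree_C])
      have hα : (αP i).totalDegree ≤ 1 := totalDegree_finsetSum_le fun q _ =>
        (totalDegree_mul _ _).trans (by rw [totalDegree_X, totalDegree_C])
      simp only [cycM, Matrix.of_apply]
      refine (totalDegree_add _ _).trans (max_le ((totalDegree_add _ _).trans (max_le ?_ ?_)) ?_) <;> split_ifs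
      all_goals first | exact hα | exact hX _ | simp
    rw [Fintype.card_option, Fintype.card_fin]
    omega
  obtain ⟨π, hπ⟩ := LinearMap.exists_leftInverse_of_injective (Algebra.linearMap ↥K L)
    (LinearMap.ker_eq_bot.2 (algebraMap ↥K L).injective)
  obtain ⟨x, hx0, hx⟩ := exists_zero_of_values P hdeg π (fun y => LinearMap.congr_fun hπ y) (fun x => by
      obtain ⟨e, he, he'⟩ := C.det_mem (∑ q, x (some q) • bF q) ((hK _).1 (x none).2)
      exact ⟨⟨e, (hK e).2 he⟩, by rw [hev]; exact he'⟩) (by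
      have h := hev 0
      simp only [Pi.zero_apply, map_zero, zero_smul, Finset.sum_const_zero, ZeroMemClass.coe_zero] at h
      rw [h]
      refine Matrix.det_eq_zero_of_row_eq_zero 0 fun l => ?_
      have hz : (0 : F) ^ p ^ (0 * k) = 0 := zero_pow (pow_ne_zero _ (Fact.out : p.Prime).ne_zero)
      simp [Cycle.mat, cycM, hz])
  refine ⟨∑ q, x (some q) • bF q, x none, (hK _).1 (x none).2, ?_, (hev x).symm.trans hx⟩
  by_contra hh
  push Not at hh
  refine hx0 (funext fun o => ?_)
  cases o with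
  | none => exact Subtype.ext hh.2
  | some q =>
    exact (Fintype.linearIndependent_iff.1 bF.linearIndependent) (fun q => x (some q)) hh.1 q

end Cycle

end CfsgLib.LocalEven.SpreadField
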