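import Cfsg.Agent.Lib.LocalEven.SpreadField.Twist
import Cfsg.Agent.Lib.LocalEven.SpreadField.DetValue

/-!
An additive family of units with inverse-closure in a finite ring of prime characteristic is a field.
-/

set_option autoImplicit false
set_option linter.style.haveILetI false
set_option linter.unusedSectionVars false

namespace CfsgLib.LocalEven.SpreadField

open CfsgLib.LocalEven.PushUp

universe u

variable {R : Type u} [Ring R] [Nontrivial R] [Finite R] {A B : AddSubgroup R}

section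
variable {F : Type u} [Field F] [Fintype F] {ι : F →+* R} {p d : ℕ} [Fact p.Prime] [CharP F p] {a₀ : F}

/-- No member has two opposite twists. -/
theorem no_pair (h : InvPair A B) (hexp : ∀ r : R, p • r = 0) (hιA : ∀ e, ι e ∈ A)
    (hmax : ∀ x ∈ A, (∀ e, Commute x (ι e)) → ∃ e, ι e = x) (hg : Gen p d a₀) {j k : ℕ} {w w' : R} {u u' : F}
    (P : Pair ι A p d j k w w' u u') : False := by
  classical
  have hprime : p.Prime := Fact.out
  haveI : NeZero d := ⟨by have := hg.pos; omega⟩
  have hkz : (k : ZMod d) = -(j : ZMod d) := by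
    refine eq_neg_of_add_eq_zero_right ?_
    rw [← Nat.cast_add, ← Nat.cast_zero]
    exact (ZMod.natCast_eq_natCast_iff' _ _ _).2 (by rw [P.inv, Nat.zero_mod])
  have hcg : ∀ {x y : ℕ}, (x : ZMod d) = y → x % d = y % d := fun h => (ZMod.natCast_eq_natCast_iff' _ _ _).1 h
  have hpow : ∀ {x y : ℕ}, (x : ZMod d) = y → ∀ e : F, e ^ p ^ x = e ^ p ^ y := fun h e => by
    rw [← pow_period hg.card e, hcg h, pow_period hg.card e]
  -- the period
  have hex : ∃ n, 0 < n ∧ d ∣ n * j := ⟨d, hg.pos, dvd_mul_right d j⟩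
  set m := Nat.find hex with hm
  obtain ⟨hm0, hmd⟩ := Nat.find_spec hex
  rw [← hm] at hm0 hmd
  have hm2 : 2 ≤ m := by
    by_contra hlt
    rw [show m = 1 by omega, one_mul] at hmd
    exact P.nz (Nat.mod_eq_zero_of_dvd hmd)
  haveI : NeZero m := ⟨by omega⟩
  have hmz : (m : ZMod d) * j = 0 := by
    rw [← Nat.cast_mul, ← Nat.cast_zero]
    exact (ZMod.natCast_eq_natCast_iff' _ _ _).2 (by rw [Nat.zero_mod, Nat.mod_eq_zero_of_dvd hmd])
  have hoff : ∀ i, 0 < i → i < m → (i * j) % d ≠ 0 := fun i h0 hi h1 =>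
    Nat.find_min hex hi ⟨h0, Nat.dvd_of_mod_eq_zero h1⟩
  have hoff' : ∀ i, 0 < i → i < m → (i * k) % d ≠ 0 := fun i h0 hi h1 => hoff i h0 hi (by
    have h2 := (ZMod.natCast_eq_natCast_iff' (i * k) 0 d).2 (by rw [h1, Nat.zero_mod])
    push_cast [hkz] at h2
    have h3 : ((i * j : ℕ) : ZMod d) = ((0 : ℕ) : ZMod d) := by push_cast; linear_combination -h2
    rw [hcg h3, Nat.zero_mod])
  have hinj : ∀ i < m, ∀ l < m, (i * j) % d = (l * j) % d → i = l := by
    intro i hi l hl e
    have e1 := (ZMod.natCast_eq_natCast_iff' _ _ _).2 e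
    by_contra hne
    rcases lt_or_gt_of_ne hne with h1 | h1
    · refine hoff (l - i) (by omega) (by omega) ?_
      rw [hcg (show (((l - i) * j : ℕ) : ZMod d) = ((0 : ℕ) : ZMod d) by
        push_cast [Nat.cast_sub h1.le] at e1 ⊢; linear_combination -e1), Nat.zero_mod]
    · refine hoff (i - l) (by omega) (by omega) ?_
      rw [hcg (show (((i - l) * j : ℕ) : ZMod d) = ((0 : ℕ) : ZMod d) by
        push_cast [Nat.cast_sub h1.le] at e1 ⊢; linear_combination e1), Nat.zero_mod]
  -- the two full powers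
  obtain ⟨m', hm'⟩ : ∃ m', m = m' + 1 := ⟨m - 1, by omega⟩
  set W := w ^ m with hW
  set W' := w' ^ m with hW'
  have hWc : Comp ι p 0 W := (P.comp.pow m).congr hg.card (hcg (by push_cast; exact hmz))
  have hW'c : Comp ι p 0 W' := (P.comp'.pow m).congr hg.card (hcg (by push_cast [hkz]; linear_combination -hmz))
  obtain ⟨r, hr, hbm⟩ := P.pow_eq m (by omega)
  obtain ⟨e₀, he₀⟩ : ∃ e, Off ι p d a₀ (r - ι e) := by
    clear hbm
    induction hr using AddSubgroup.closure_induction with
    | mem x hx =>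
      obtain ⟨e, i, hi, rfl | rfl⟩ := hx
      · rcases Nat.eq_zero_or_pos i with rfl | h0
        · exact ⟨e, by simp [off_zero]⟩
        · exact ⟨0, by rw [map_zero, sub_zero]; exact off_of_comp hg (hoff i h0 hi) ((P.comp.pow i).left_mul e)⟩
      · rcases Nat.eq_zero_or_pos i with rfl | h0
        · exact ⟨e, by simp [off_zero]⟩
        · exact ⟨0, by rw [map_zero, sub_zero]; exact off_of_comp hg (hoff' i h0 hi) ((P.comp'.pow i).left_mul e)⟩
    | zero => exact ⟨0, by simp [off_zero]⟩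
    | add x y _ _ hx hy =>
      obtain ⟨e, he⟩ := hx
      obtain ⟨e', he'⟩ := hy
      exact ⟨e + e', by rw [map_add, show x + y - (ι e + ι e') = (x - ι e) + (y - ι e') by abel]; exact he.add he'⟩
    | neg x _ hx =>
      obtain ⟨e, he⟩ := hx
      exact ⟨-e, by rw [map_neg, show -x - -ι e = -(x - ι e) by abel]; exact he.neg⟩
  obtain ⟨T, hT⟩ : ∃ T, ι T = W + W' := by
    obtain ⟨T', hT'⟩ := comp_zero_mem h hιA hmax hg ((hWc.add hW'c).add (comp_of_image e₀)) he₀ (by
      rw [show W + W' + ι e₀ + (r - ι e₀) = W + W' + r by abel, ← hbm]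
      exact pow_mem h P.mem m)
    exact ⟨T' - e₀, by rw [map_sub, hT', add_sub_cancel_right]⟩
  set Q := ∏ i ∈ Finset.range m, u ^ p ^ (i * j) with hQdef
  have hQ : W * W' = ι Q := P.w_pow_mul m
  have hwW : Commute w W := Commute.self_pow w m
  have hwW' : Commute w W' := by
    show w * W' = W' * w
    rw [hW', hm', P.w'_pow_mul m', pow_succ', ← mul_assoc, P.prod, ← P.twist_u]
    congr 2
    exact hpow (by
      have e := hmz
      rw [hm'] at e
      push_cast [hkz] at e ⊢
      linear_combination e) u'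
  have hWW' : Commute W W' := hwW'.pow_left m
  have hfix : ∀ e, Commute w (ι e) → e ^ p ^ j = e := fun e he => by
    refine sub_eq_zero.1 (iota_cancel (ι := ι) (y := w) ?_ P.w_ne)
    rw [map_sub, sub_mul, ← P.comp e, he.eq, sub_self]
  have hTfix : T ^ p ^ j = T := hfix T (hT ▸ hwW.add_right hwW')
  have hQfix : Q ^ p ^ j = Q := hfix Q (hQ ▸ hwW.mul_right hwW')
  have hW0 : W ≠ 0 := fun e => P.notNil m e
  have hquad : W * W = ι T * W - ι Q := by
    rw [hT, add_mul, hWW'.symm.eq, ← hQ]; abel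
  have hWne : ∀ v : R, W * v ≠ 0 → W * (W * v) ≠ 0 := by
    intro v hv h0
    by_cases hQ0 : Q = 0
    · rw [← mul_assoc, hquad, hQ0, map_zero, sub_zero, mul_assoc] at h0
      refine hv (by_contra fun hne => ?_)
      have hT0 : T ≠ 0 := fun e => P.notNil (m + m) (by
        rw [pow_add, ← hW, hquad, hQ0, e, map_zero, zero_mul, sub_zero])
      exact hne ((iota_isUnit hT0).mul_right_eq_zero.1 h0)
    · refine hv ((iota_isUnit (ι := ι) hQ0).mul_right_eq_zero.1 ?_)
      rw [← hQ, hWW'.eq, mul_assoc, h0, mul_zero]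
  -- the residue field
  let C₀ : Subring R := Subring.closure (Set.range ι ∪ {W})
  have hgc : ∀ y ∈ (Set.range ι ∪ {W}), ∀ z ∈ (Set.range ι ∪ {W}), Commute y z := by
    rintro y (⟨e, rfl⟩ | rfl) z (⟨e', rfl⟩ | rfl)
    · show ι e * ι e' = ι e' * ι e
      rw [← map_mul, ← map_mul, mul_comm]
    · exact (hWc.commute hg (Nat.zero_mod d) e).symm
    · exact hWc.commute hg (Nat.zero_mod d) e'
    · exact Commute.refl _
  have hC1 : C₀ ≤ Subring.centralizer (Set.range ι ∪ {W}) :=
    Subring.closure_le.2 fun y hy => Subring.mem_centralizer_iff.2 fun z hz => hgc z hz y hy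
  have hCc : ∀ y ∈ C₀, ∀ z ∈ C₀, Commute y z := fun y hy z hz => by
    have h3 : C₀ ≤ Subring.centralizer (C₀ : Set R) :=
      Subring.closure_le.2 fun w hw => Subring.mem_centralizer_iff.2 fun v hv =>
        (Subring.mem_centralizer_iff.1 (hC1 hv) w hw).symm
    exact (Subring.mem_centralizer_iff.1 (h3 hz) y hy)
  have hιC : ∀ e, ι e ∈ C₀ := fun e => Subring.subset_closure (Or.inl ⟨e, rfl⟩)
  have hWC : W ∈ C₀ := Subring.subset_closure (Or.inr rfl)
  letI : CommRing ↥C₀ := { (inferInstance : Ring ↥C₀) with mul_comm := fun x y => Subtype.ext (hCc x x.2 y y.2) }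
  let Ann : R → Ideal ↥C₀ := fun r =>
    { carrier := {c | (c : R) * r = 0}
      add_mem' := fun {a b} ha hb => show ((a + b : ↥C₀) : R) * r = 0 by
        rw [Subring.coe_add, add_mul, show (a : R) * r = 0 from ha, show (b : R) * r = 0 from hb, add_zero]
      zero_mem' := show ((0 : ↥C₀) : R) * r = 0 by simp
      smul_mem' := fun c a ha => show ((c * a : ↥C₀) : R) * r = 0 by
        rw [Subring.coe_mul, mul_assoc, show (a : R) * r = 0 from ha, mul_zero] }
  haveI : Finite ↥C₀ := Subtype.finite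
  haveI : Finite (Ideal ↥C₀) := Finite.of_injective (fun I : Ideal ↥C₀ => (I : Set ↥C₀)) SetLike.coe_injective
  let 𝒮 : Set (Ideal ↥C₀) := {I | ∃ v : R, (∀ e, Commute v (ι e)) ∧ W * v ≠ 0 ∧ I = Ann (W * v)}
  obtain ⟨I, hI⟩ := Set.Finite.exists_maximal (Set.toFinite 𝒮)
    ⟨_, 1, fun e => Commute.one_left _, by rwa [mul_one], rfl⟩
  obtain ⟨v₀, hv₀, hr₀, rfl⟩ := hI.1
  set r₀ := W * v₀ with hr₀def
  haveI hmaxI : (Ann r₀).IsMaximal := by
    haveI : (Ann r₀).IsPrime := by
      refine ⟨fun e => hr₀ ?_, fun {a b} hab => ?_⟩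
      · have h1 : ((1 : ↥C₀) : R) * r₀ = 0 := (e ▸ Submodule.mem_top : (1 : ↥C₀) ∈ Ann r₀)
        simpa using h1
      · by_cases hb : b ∈ Ann r₀
        · exact Or.inr hb
        refine Or.inl ?_
        have hbW : W * ((b : R) * v₀) = (b : R) * r₀ := by
          rw [hr₀def, ← mul_assoc, ← mul_assoc, (hCc W hWC b b.2).eq]
        have hmem : Ann (W * ((b : R) * v₀)) ∈ 𝒮 :=
          ⟨_, fun e => (hCc b b.2 _ (hιC e)).mul_left (hv₀ e), fun e => hb (show (b : R) * r₀ = 0 by rw [← hbW]; exact e), rfl⟩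
        have hle : Ann r₀ ≤ Ann (W * ((b : R) * v₀)) := fun c hc => by
          show (c : R) * (W * ((b : R) * v₀)) = 0
          rw [hbW, ← mul_assoc, (hCc c c.2 b b.2).eq, mul_assoc, show (c : R) * r₀ = 0 from hc, mul_zero]
        have ha : a ∈ Ann (W * ((b : R) * v₀)) := by
          show (a : R) * (W * ((b : R) * v₀)) = 0
          rw [hbW, ← mul_assoc]
          exact hab
        exact hI.2 hmem hle ha
    haveI : Finite (↥C₀ ⧸ Ann r₀) := Finite.of_surjective _ Ideal.Quotient.mk_surjective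
    exact Ideal.Quotient.maximal_of_isField _ (Finite.isDomain_to_isField _)
  letI : Field (↥C₀ ⧸ Ann r₀) := Ideal.Quotient.field _
  set mk := Ideal.Quotient.mk (Ann r₀) with hmk
  have hsurj : Function.Surjective mk := Ideal.Quotient.mk_surjective
  let ev : (↥C₀ ⧸ Ann r₀) → R := fun l => ((Function.surjInv hsurj l : ↥C₀) : R) * r₀
  have hev : ∀ c : ↥C₀, ev (mk c) = (c : R) * r₀ := fun c => by
    have h1 : mk (Function.surjInv hsurj (mk c)) = mk c := Function.surjInv_eq hsurj _
    have h2 : ((Function.surjInv hsurj (mk c) - c : ↥C₀) : R) * r₀ = 0 := (Ideal.Quotient.eq.1 h1)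
    rw [AddSubgroupClass.coe_sub, sub_mul, sub_eq_zero] at h2
    exact h2
  have hev0 : ∀ l, ev l = 0 → l = 0 := fun l hl => by
    obtain ⟨c, rfl⟩ := hsurj l
    rw [hev] at hl
    exact Ideal.Quotient.eq_zero_iff_mem.2 hl
  have hev_mul : ∀ (c : ↥C₀) l, ev (mk c * l) = (c : R) * ev l := fun c l => by
    obtain ⟨c', rfl⟩ := hsurj l
    rw [← map_mul, hev, hev, Subring.coe_mul, mul_assoc]
  have hev_add : ∀ l l', ev (l + l') = ev l + ev l' := fun l l' => by
    obtain ⟨c, rfl⟩ := hsurj l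
    obtain ⟨c', rfl⟩ := hsurj l'
    rw [← map_add, hev, hev, hev, Subring.coe_add, add_mul]
  have hev_comp : ∀ l, Comp ι p 0 (ev l) := fun l e => by
    rw [pow_zero, pow_one]
    exact ((hCc _ (Function.surjInv hsurj l).2 _ (hιC e)).mul_left
      ((hWc.commute hg (Nat.zero_mod d) e).mul_left (hv₀ e))).eq
  let ιC : F →+* ↥C₀ := ι.codRestrict C₀ hιC
  let ιL : F →+* ↥C₀ ⧸ Ann r₀ := mk.comp ιC
  set W₀ := mk ⟨W, hWC⟩ with hW₀
  have hιev : ∀ (e : F) l, ev (ιL e * l) = ι e * ev l := fun e l => hev_mul (ιC e) l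
  have hWev : ∀ l, ev (W₀ * l) = W * ev l := fun l => hev_mul ⟨W, hWC⟩ l
  have hW₀ne : W₀ ≠ 0 := fun e => by
    have h1 : W * r₀ = 0 := Ideal.Quotient.eq_zero_iff_mem.1 e
    exact hWne v₀ hr₀ h1
  haveI : CharP (↥C₀ ⧸ Ann r₀) p := (RingHom.charP_iff ιL ιL.injective p).1 inferInstance
  have hroot : W₀ * W₀ - ιL T * W₀ + ιL Q = 0 := by
    show mk ⟨W, hWC⟩ * mk ⟨W, hWC⟩ - mk (ιC T) * mk ⟨W, hWC⟩ + mk (ιC Q) = 0
    rw [← map_mul, ← map_mul, ← map_sub, ← map_add]
    refine (congrArg mk (Subtype.ext ?_)).trans (map_zero mk)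
    show W * W - ι T * W + ι Q = 0
    rw [hquad]; abel
  have C : Cycle p d a₀ j k m ιL u' T Q W₀ :=
    ⟨hg, hm2, P.inv, Nat.mod_eq_zero_of_dvd hmd, hinj, hTfix, hQfix, by rw [P.twist_u], hroot, hW₀ne⟩
  obtain ⟨a, t, ht, hat, hdet⟩ := C.exists_det_zero
  obtain ⟨l, hl0, hl⟩ := Matrix.exists_mulVec_eq_zero_iff.2 hdet
  -- moving the generators past powers
  have hswap : ∀ (e : F) (i : ℕ), ι e * w ^ i = w ^ i * ι (e ^ p ^ (i * k)) := fun e i => by
    rw [P.comp.pow i, ← pow_mul, ← pow_add,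
      hpow (y := 0) (by push_cast [hkz]; ring) e, pow_zero, pow_one]
  have htk : t ^ p ^ k = t := by simpa using C.fix_any ht 1
  have F1 : ∀ (i : Fin m) x, w * (w ^ (i : ℕ) * ev x) = w ^ ((i + 1 : Fin m) : ℕ) * ev (C.fwd i * x) := by
    intro i x
    rw [← mul_assoc, ← pow_succ']
    unfold Cycle.fwd
    split_ifs with hi
    · rw [Fin.val_add, Fin.coe_ofNat_eq_mod, Nat.add_mod_mod, Nat.mod_eq_of_lt hi, one_mul]
    · have hi' : (i : ℕ) + 1 = m := by have := i.2; omega
      rw [Fin.val_add, Fin.coe_ofNat_eq_mod, Nat.add_mod_mod, hi', Nat.mod_self, pow_zero, one_mul, hWev]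
  have F2 : ∀ (i : Fin m) x, w' * (w ^ ((i + 1 : Fin m) : ℕ) * ev x) = w ^ (i : ℕ) * ev (C.bwd i * x) := by
    intro i x
    have hwhole : w' * (w ^ ((i : ℕ) + 1) * ev (x / C.fwd i)) = w ^ (i : ℕ) * ev (C.bwd i * x) := by
      rw [pow_succ', mul_assoc, ← mul_assoc w', P.prod', ← mul_assoc, hswap, mul_assoc, ← hιev]
      unfold Cycle.bwd Cycle.prd
      congr 2
      rw [div_mul_eq_mul_div, mul_div_assoc]
    rw [← hwhole]
    unfold Cycle.fwd
    split_ifs with hi
    · rw [Fin.val_add, Fin.coe_ofNat_eq_mod, Nat.add_mod_mod, Nat.mod_eq_of_lt hi, div_one]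
    · have hi' : (i : ℕ) + 1 = m := by have := i.2; omega
      rw [Fin.val_add, Fin.coe_ofNat_eq_mod, Nat.add_mod_mod, hi', Nat.mod_self, pow_zero, one_mul, ← hW,
        ← hWev, mul_div_cancel₀ _ hW₀ne]
  set x := ι a + ι t * (w + w') with hx
  let Y : (Fin m → ↥C₀ ⧸ Ann r₀) → R := fun l => ∑ i : Fin m, w ^ (i : ℕ) * ev (l i)
  have hscal : ∀ (e : F) (i : ℕ) z, ι e * (w ^ i * ev z) = w ^ i * ev (ιL (e ^ p ^ (i * k)) * z) := fun e i z => by
    rw [← mul_assoc, hswap, mul_assoc, hιev]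
  have htL : ∀ i : ℕ, t ^ p ^ (i * k) = t := fun i => C.fix_any ht i
  have hkill : x * Y l = Y ((C.mat a t).mulVec l) := by
    have e1 : ι t * (w * Y l) = ∑ i : Fin m, w ^ (i : ℕ) * ev (ιL t * C.fwd (i - 1) * l (i - 1)) := by
      simp only [Y, Finset.mul_sum, F1, hscal, htL]
      rw [← Equiv.sum_comp (Equiv.addRight (1 : Fin m))
        (fun i : Fin m => w ^ (i : ℕ) * ev (ιL t * C.fwd (i - 1) * l (i - 1)))]
      simp [mul_assoc]
    have e2 : ι t * (w' * Y l) = ∑ i : Fin m, w ^ (i : ℕ) * ev (ιL t * C.bwd i * l (i + 1)) := by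
      simp only [Y]
      rw [← Equiv.sum_comp (Equiv.addRight (1 : Fin m)) (fun i : Fin m => w ^ (i : ℕ) * ev (l i))]
      simp only [Equiv.coe_addRight, Finset.mul_sum, F2, hscal, htL, mul_assoc]
    rw [hx, add_mul, mul_assoc, add_mul, mul_add, e1, e2]
    simp only [Y, Cycle.mat, cycM_mulVec, hev_add, mul_add, Finset.sum_add_distrib, Finset.mul_sum, hscal]
    abel
  have hindep : ∀ l : Fin m → ↥C₀ ⧸ Ann r₀, Y l = 0 → l = 0 := by
    intro l hl
    funext i
    have hi0 : w ^ (i : ℕ) * ev (l i) = 0 := by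
      refine comp_indep (ι := ι) hg Finset.univ (fun i : Fin m => (i : ℕ) * j) (fun i : Fin m => w ^ (i : ℕ) * ev (l i)) ?_ ?_ hl
        (Finset.mem_univ i)
      · intro i _ i' _ e
        refine Fin.ext (hinj i i.2 i' i'.2 ?_)
        have e' : a₀ ^ p ^ ((i : ℕ) * j) = a₀ ^ p ^ ((i' : ℕ) * j) := e
        rw [← pow_period hg.card, ← pow_period hg.card a₀ ((i' : ℕ) * j)] at e'
        exact frob_inj hg (Nat.mod_lt _ hg.pos) (Nat.mod_lt _ hg.pos) e'
      · intro i _
        have := (P.comp.pow (i : ℕ)).mul (hev_comp (l i))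
        rwa [zero_add] at this
    have h1 : W * ev (l i) = 0 := by
      rw [hW, show m = (m - (i : ℕ)) + (i : ℕ) by have := i.2; omega, pow_add, mul_assoc, hi0, mul_zero]
    rw [← hWev] at h1
    exact (mul_eq_zero.1 (hev0 _ h1)).resolve_left hW₀ne
  have hY0 : x * Y l = 0 := by
    rw [hkill, hl]
    exact Finset.sum_eq_zero fun i _ => by
      show w ^ (i : ℕ) * ev (0 : ↥C₀ ⧸ Ann r₀) = 0
      rw [show (0 : ↥C₀ ⧸ Ann r₀) = mk 0 from (map_zero mk).symm, hev, ZeroMemClass.coe_zero, zero_mul, mul_zero]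
  have hcomm : Commute (ι t) (w + w') := by
    refine Commute.add_right ?_ ?_
    · show ι t * w = w * ι t
      rw [P.comp t, ht]
    · show ι t * w' = w' * ι t
      rw [P.comp' t, htk]
  have hxA : x ∈ A := A.add_mem (hιA a) (mul_mem_of_commute h hprime hexp (hιA t) P.mem hcomm)
  by_cases hx0 : x = 0
  · by_cases ht0 : t = 0
    · rw [hx, ht0, map_zero, zero_mul, add_zero] at hx0
      exact (hat.resolve_right (fun h => h ht0)) ((map_eq_zero ι).1 hx0)
    · have hb : w + w' = ι (-(t⁻¹ * a)) := by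
        have h2 : ι t⁻¹ * (ι a + ι t * (w + w')) = 0 := by rw [← hx, hx0, mul_zero]
        rw [mul_add, ← mul_assoc, ← map_mul, ← map_mul, inv_mul_cancel₀ ht0, map_one, one_mul,
          add_eq_zero_iff_eq_neg'] at h2
        rw [h2, map_neg]
      -- a single member cannot have two twists and lie in the field
      set c := -(t⁻¹ * a) with hc
      have e1 : (w + w') * ι a₀ = ι a₀ * (w + w') := by rw [hb, ← map_mul, ← map_mul, mul_comm]
      have e2 := congrArg (fun y => Phi (ι := ι) a₀ y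
        ((Polynomial.X - Polynomial.C a₀) * (Polynomial.X - Polynomial.C (a₀ ^ p ^ k)))) hb
      simp only [Phi_add, Phi_eigen (P.comp a₀), Phi_eigen (P.comp' a₀),
        Phi_eigen (show ι c * ι a₀ = ι a₀ * ι c by rw [← map_mul, ← map_mul, mul_comm]), Polynomial.eval_mul,
        Polynomial.eval_sub, Polynomial.eval_X, Polynomial.eval_C, sub_self, mul_zero, zero_mul, map_zero,
        add_zero] at e2
      rcases mul_eq_zero.1 (iota_cancel e2 P.w_ne) with e3 | e3
      · rw [sub_eq_zero] at e3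
        have e4 : a₀ ^ p ^ (j % d) = a₀ ^ p ^ 0 := by rw [pow_period hg.card, e3, pow_zero, pow_one]
        exact P.nz (frob_inj hg (Nat.mod_lt _ hg.pos) hg.pos e4)
      · rw [sub_eq_zero, ← pow_period hg.card a₀ j, ← pow_period hg.card a₀ k] at e3
        have e4 := frob_inj hg (Nat.mod_lt _ hg.pos) (Nat.mod_lt _ hg.pos) e3
        refine P.nz2 ?_
        rw [Nat.add_mod]
        nth_rewrite 2 [e4]
        rw [← Nat.add_mod]
        exact P.inv
  · exact hl0 (hindep l ((isUnit_of_mem h hxA hx0).mul_right_eq_zero.1 hY0))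

/-- The field exhausts the family. -/
theorem mem_range_of_mem (h : InvPair A B) (hexp : ∀ r : R, p • r = 0) (hιA : ∀ e, ι e ∈ A)
    (hmax : ∀ x ∈ A, (∀ e, Commute x (ι e)) → ∃ e, ι e = x) (hg : Gen p d a₀) {x : R} (hx : x ∈ A) :
    ∃ e, ι e = x := by
  classical
  letI := ZMod.algebra F p
  by_contra hne
  obtain ⟨c, hc, hsum⟩ := exists_decomp (ι := ι) hg x
  obtain ⟨j, hjd, hj0, hcj⟩ : ∃ j, j < d ∧ j ≠ 0 ∧ c j ≠ 0 := by
    by_contra hn
    push Not at hn
    refine hne (hmax x hx fun e => ?_)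
    rw [hsum]
    refine Commute.sum_left _ _ _ fun k hk => ?_
    rw [Finset.mem_range] at hk
    by_cases hk0 : k = 0
    · subst hk0; exact (hc 0 hk).commute hg (Nat.zero_mod d) e
    · rw [hn k hk hk0]; exact Commute.zero_left _
  set N := pairPoly p d a₀ j with hN
  set v : ℕ → F := fun k => Polynomial.aeval (a₀ * a₀ ^ p ^ k) N with hv
  have hb := Psi_mem (p := p) (a₀ := a₀) h hιA hx N
  rw [hsum, map_sum] at hb
  rw [Finset.sum_congr rfl (g := fun k => ι (v k) * c k)
    (fun k hk => Psi_comp (hc k (Finset.mem_range.1 hk)) N)] at hb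
  have hinv : (d - j + j) % d = 0 := by rw [Nat.sub_add_cancel hjd.le, Nat.mod_self]
  have hvj : v j ≠ 0 := pairPoly_ne hg hjd (Or.inl rfl)
  have hw : Comp ι p j (ι (v j) * c j) := (hc j hjd).left_mul _
  have hw0 : ι (v j) * c j ≠ 0 := fun e => hcj ((iota_isUnit hvj).mul_right_eq_zero.1 e)
  have hkd : d - j < d := by omega
  have hzero : ∀ k ∈ Finset.range d, k ∉ ({j, d - j} : Finset ℕ) → ι (v k) * c k = 0 := by
    intro k hk hk'
    rw [Finset.mem_range] at hk
    simp only [Finset.mem_insert, Finset.mem_singleton, not_or] at hk'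
    rw [show v k = 0 from pairPoly_zero hk hk'.1 (fun e => hk'.2 ?_), map_zero, zero_mul]
    obtain ⟨q, hq⟩ := Nat.dvd_of_mod_eq_zero e
    rcases q with _ | _ | q
    · omega
    · omega
    · rw [Nat.mul_add, Nat.mul_add] at hq; omega
  rw [← Finset.sum_subset (s₁ := {j, d - j}) (fun k hk => by
      simp only [Finset.mem_insert, Finset.mem_singleton] at hk
      rw [Finset.mem_range]; omega) hzero] at hb
  by_cases h2 : d - j = j
  · rw [h2, Finset.pair_eq_singleton, Finset.sum_singleton] at hb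
    set b := ι (v j) * c j with hbdef
    have hbu := isUnit_of_mem h hb hw0
    obtain ⟨β, hβ⟩ := hmax _ (mul_mem_of_commute h Fact.out hexp hb hb (Commute.refl b))
      (fun e => (hw.mul hw).commute hg (by rw [show j + j = d by omega, Nat.mod_self]) e)
    have hβfix : β ^ p ^ j = β := by
      refine sub_eq_zero.1 (iota_cancel (ι := ι) (y := b) ?_ hw0)
      rw [map_sub, sub_mul, ← hw β, hβ, ← mul_assoc b b b, sub_self]
    have hβ0 : β ≠ 0 := fun e => by
      rw [e, map_zero] at hβ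
      exact hw0 (hbu.mul_right_eq_zero.1 hβ.symm)
    obtain ⟨a, ha⟩ : ∃ a : F, a ^ p ^ j * a = β := by
      obtain ⟨n, hn⟩ := hg.surj β hβ0
      have h1 : a₀ ^ (n * p ^ j) = a₀ ^ n := by rw [pow_mul, hn, hβfix]
      have hfo : IsOfFinOrder a₀ := isOfFinOrder_iff_pow_eq_one.2 ⟨orderOf a₀, by
        rw [hg.order]; have := Nat.one_lt_pow (show d ≠ 0 by omega) hg.prime.one_lt; omega, pow_orderOf_eq_one a₀⟩
      have h3 := ((hfo.pow_eq_pow_iff_modEq).1 h1).symm
      rw [hg.order] at h3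
      have h4 := (Nat.modEq_iff_dvd' (Nat.le_mul_of_pos_right n (pow_pos hg.prime.pos j))).1 h3
      have hd2 : p ^ d = p ^ j * p ^ j := by rw [← pow_add, show j + j = d by omega]
      have hP : 2 ≤ p ^ j := Nat.one_lt_pow hj0 hg.prime.one_lt
      obtain ⟨P, hPeq⟩ : ∃ P, p ^ j = P + 2 := ⟨p ^ j - 2, by omega⟩
      rw [hd2, hPeq, show (P + 2) * (P + 2) - 1 = (P + 3) * (P + 1) by
        rw [Nat.add_mul, Nat.mul_add, Nat.mul_add, Nat.add_mul, Nat.mul_add, Nat.mul_add]; omega,
        show n * (P + 2) - n = n * (P + 1) by rw [Nat.mul_add, Nat.mul_add]; omega] at h4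
      obtain ⟨q, hq⟩ := Nat.dvd_of_mul_dvd_mul_right (by omega) h4
      refine ⟨a₀ ^ q, ?_⟩
      rw [← pow_succ, ← pow_mul, ← hn]
      congr 1
      rw [hq, hPeq, mul_comm]
    have haa : (a ^ p ^ j) ^ p ^ j = a := by
      rw [← pow_mul, ← pow_add, show j + j = d by omega, ← hg.card, FiniteField.pow_card]
    have hprod : (b - ι a) * (b + ι (a ^ p ^ j)) = 0 := by
      rw [sub_mul, mul_add, mul_add, hw, haa, ← hβ, ← map_mul ι a, mul_comm a, ha]
      abel
    have hsa : b - ι a ≠ 0 := fun e => by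
      rw [sub_eq_zero] at e
      have h5 := hw a₀
      rw [e] at h5
      have h6 : (ι a) * ι a₀ = ι a₀ * ι a := by rw [← map_mul, ← map_mul, mul_comm]
      rw [h6] at h5
      have h7 : ι a₀ * b - ι (a₀ ^ p ^ j) * b = 0 := by rw [e, h5, sub_self]
      rw [← sub_mul, ← map_sub] at h7
      have h8 := sub_eq_zero.1 (iota_cancel h7 hw0)
      exact hj0 (frob_inj hg hg.pos hjd (by rw [pow_zero, pow_one]; exact h8)).symm
    have hs := (isUnit_of_mem h (A.sub_mem hb (hιA a)) hsa).mul_right_eq_zero.1 hprod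
    have h9 : b = ι (-(a ^ p ^ j)) := by rw [map_neg]; exact eq_neg_of_add_eq_zero_left hs
    have h5 := hw a₀
    rw [h9] at h5
    have h7 : ι a₀ * b - ι (a₀ ^ p ^ j) * b = 0 := by
      rw [h9, ← h5, ← map_mul, ← map_mul, mul_comm, sub_self]
    rw [← sub_mul, ← map_sub] at h7
    have h8 := sub_eq_zero.1 (iota_cancel h7 hw0)
    exact hj0 (frob_inj hg hg.pos hjd (by rw [pow_zero, pow_one]; exact h8)).symm
  · rw [Finset.sum_pair (Ne.symm h2)] at hb
    set w := ι (v j) * c j with hwdef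
    set w' := ι (v (d - j)) * c (d - j) with hw'def
    have hw' : Comp ι p (d - j) w' := (hc _ hkd).left_mul _
    have hnz2 : (j + j) % d ≠ 0 := by
      intro e
      obtain ⟨q, hq⟩ := Nat.dvd_of_mod_eq_zero e
      rcases q with _ | _ | q
      · omega
      · omega
      · rw [Nat.mul_add, Nat.mul_add] at hq; omega
    obtain ⟨⟨u, hu⟩, u', hu'⟩ := prods_mem h hιA hmax hg hw hw' (by rw [add_comm]; exact hinv) hnz2 hb
    by_cases hnil : ∃ n, w ^ n = 0
    · -- then the other part is not nilpotent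
      obtain ⟨n, hn⟩ := hnil
      have hz : ∀ {z z' : R} {s : F}, z * z' = ι s → (∃ n, z ^ n = 0) → s = 0 := by
        intro z z' s hs hz'
        by_contra hs0
        classical
        have hk := Nat.find_spec hz'
        rcases hN' : Nat.find hz' with _ | n'
        · rw [hN', pow_zero] at hk; exact one_ne_zero hk
        · rw [hN'] at hk
          refine Nat.find_min hz' (m := n') (by omega) ((iota_isUnit (ι := ι) hs0).mul_left_eq_zero.1 ?_)
          rw [← hs, ← mul_assoc, ← pow_succ, hk, zero_mul]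
      have hu0 := hz hu.symm ⟨n, hn⟩
      by_cases hnil' : ∃ n, w' ^ n = 0
      · obtain ⟨n', hn'⟩ := hnil'
        have hu0' := hz hu'.symm ⟨n', hn'⟩
        rw [hu0, map_zero] at hu
        rw [hu0', map_zero] at hu'
        have hexpand : ∀ i, (w + w') ^ (i + 1) = w ^ (i + 1) + w' ^ (i + 1) := by
          intro i
          induction i with
          | zero => simp
          | succ i ih =>
            rw [pow_succ' (w + w'), ih, add_mul, mul_add, mul_add]
            rw [pow_succ' w' i, ← mul_assoc w w', ← hu, zero_mul, add_zero, ← pow_succ',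
              pow_succ' w i, ← mul_assoc w' w, ← hu', zero_mul, zero_add]
            simp only [pow_succ', mul_assoc]
        have hb0 : (w + w') ^ (n + n' + 1) = 0 := by
          rw [hexpand, pow_eq_zero_of_le (by omega) hn, pow_eq_zero_of_le (by omega) hn', add_zero]
        by_cases hbz : w + w' = 0
        · refine hw0 (comp_indep (ι := ι) hg {j, d - j} id (fun i => if i = j then w else w') ?_ ?_ ?_
            (Finset.mem_insert_self j _) |> fun e => by simpa using e)
          · intro i hi l hl e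
            simp only [Finset.coe_insert, Finset.coe_singleton, Set.mem_insert_iff, Set.mem_singleton_iff] at hi hl
            exact frob_inj hg (by omega) (by omega) e
          · intro i hi
            simp only [Finset.mem_insert, Finset.mem_singleton] at hi
            rcases hi with rfl | rfl
            · simpa using hw
            · simpa [h2] using hw'
          · rw [Finset.sum_pair (Ne.symm h2)]
            simpa [h2] using hbz
        · exact ((isUnit_of_mem h hb hbz).pow _).ne_zero hb0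
      · push Not at hnil'
        exact no_pair h hexp hιA hmax hg
          ⟨hw', hw, hinv, by rw [Nat.mod_eq_of_lt hkd]; omega, fun e => hnz2 (by
              obtain ⟨q, hq⟩ := Nat.dvd_of_mod_eq_zero e
              rcases q with _ | _ | q
              · omega
              · omega
              · rw [Nat.mul_add, Nat.mul_add] at hq; omega),
            by rw [add_comm]; exact hb, hu'.symm, hu.symm, hnil'⟩
    · push Not at hnil
      exact no_pair h hexp hιA hmax hg
        ⟨hw, hw', by rw [add_comm]; exact hinv, by rw [Nat.mod_eq_of_lt hjd]; exact hj0, hnz2, hb, hu.symm, hu'.symm, hnil⟩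

end

/-- Such a family is commutative. -/
theorem invPair_commute (h : InvPair A B) {p : ℕ} (hp : p.Prime) (hexp : ∀ r : R, p • r = 0) {a b : R}
    (ha : a ∈ A) (hb : b ∈ A) : a * b = b * a := by
  obtain ⟨F, _, _, ι, hιA, hmax⟩ := exists_maximal_field h hp hexp
  haveI := Fact.mk hp
  haveI : CharP R p := (CharP.charP_iff_prime_eq_zero hp).2 (by simpa using hexp 1)
  haveI : CharP F p := (RingHom.charP_iff ι ι.injective p).2 inferInstance
  obtain ⟨d, a₀, hg⟩ := exists_gen (F := F) hp inferInstance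
  obtain ⟨e, rfl⟩ := mem_range_of_mem h hexp hιA hmax hg ha
  obtain ⟨e', rfl⟩ := mem_range_of_mem h hexp hιA hmax hg hb
  rw [← map_mul, ← map_mul, mul_comm]

end CfsgLib.LocalEven.SpreadField
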