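import Mathlib

/-!
Cyclic tridiagonal determinants and a form of the Chevalley-Warning theorem.
-/

set_option autoImplicit false

namespace CfsgLib.LocalEven.SpreadField

variable {L : Type*} [CommRing L] {m : ℕ} [NeZero m]

/-- The matrix of `l ↦ a·l + t·(r·l shifted forward + s·l shifted backward)` around a cycle. -/
def cycM (a r s : Fin m → L) (t : L) : Matrix (Fin m) (Fin m) L :=
  Matrix.of fun i j => (if i = j then a i else 0) + (if i = j + 1 then t * r j else 0) + (if j = i + 1 then t * s i else 0)

theorem cycM_mulVec (a r s l : Fin m → L) (t : L) (i : Fin m) :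
    (cycM a r s t).mulVec l i = a i * l i + t * r (i - 1) * l (i - 1) + t * s i * l (i + 1) := by
  simp only [cycM, Matrix.mulVec, dotProduct, Matrix.of_apply, add_mul, ite_mul, zero_mul,
    Finset.sum_add_distrib]
  rw [Finset.sum_ite_eq Finset.univ i, Finset.sum_ite_eq' Finset.univ (i + 1),
    Finset.sum_congr rfl (g := fun j => if j = i - 1 then t * r j * l j else 0)
      (fun j _ => if_congr (by rw [eq_sub_iff_add_eq, eq_comm]) rfl rfl),
    Finset.sum_ite_eq' Finset.univ (i - 1)]
  simp

theorem cycM_transpose (a r s : Fin m → L) (t : L) : (cycM a r s t).transpose = cycM a s r t := by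
  ext i j
  simp only [cycM, Matrix.transpose_apply, Matrix.of_apply]
  by_cases h : i = j
  · subst h; ring
  · rw [if_neg (Ne.symm h), if_neg h]; ring

theorem det_cycM_swap (a r s : Fin m → L) (t : L) : (cycM a s r t).det = (cycM a r s t).det := by
  rw [← cycM_transpose, Matrix.det_transpose]

theorem det_cycM_shift (a r s : Fin m → L) (t : L) (k : Fin m) :
    (cycM (fun i => a (i + k)) (fun i => r (i + k)) (fun i => s (i + k)) t).det = (cycM a r s t).det := by
  rw [← Matrix.det_submatrix_equiv_self (Equiv.addRight k) (cycM a r s t)]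
  congr 1
  ext i j
  simp only [cycM, Matrix.submatrix_apply, Matrix.of_apply, Equiv.coe_addRight]
  have e1 : ∀ x y : Fin m, (x + k = y + k + 1 ↔ x = y + 1) := fun x y => by
    rw [add_right_comm]; exact add_left_inj k
  simp only [add_left_inj, e1]

theorem map_cycM {L' : Type*} [CommRing L'] (f : L →+* L') (a r s : Fin m → L) (t : L) :
    (cycM a r s t).map f = cycM (fun i => f (a i)) (fun i => f (r i)) (fun i => f (s i)) (f t) := by
  ext i j
  simp [cycM, apply_ite f]

section Field
variable {K : Type*} [Field K]

theorem det_cycM_eq_of_prod (a r s r' s' : Fin m → K) (t : K) (hr : ∀ i, r i ≠ 0) (hr' : ∀ i, r' i ≠ 0)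
    (hrs : ∀ i, r i * s i = r' i * s' i) (hprod : ∏ i, r i = ∏ i, r' i) :
    (cycM a r s t).det = (cycM a r' s' t).det := by
  classical
  let R : ℕ → K := fun k => r' (Fin.ofNat m k) / r (Fin.ofNat m k)
  let d : Fin m → K := fun i => ∏ k ∈ Finset.range (i : ℕ), R k
  have hd0 : ∀ i, d i ≠ 0 := fun i => Finset.prod_ne_zero_iff.2 fun k _ => div_ne_zero (hr' _) (hr _)
  have hof : ∀ i : Fin m, Fin.ofNat m (i : ℕ) = i := fun i => Fin.ext (Nat.mod_eq_of_lt i.2)
  have hstep : ∀ i : Fin m, d (i + 1) * r i = r' i * d i := by
    intro i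
    by_cases h : (i : ℕ) + 1 < m
    · have e : ((i + 1 : Fin m) : ℕ) = (i : ℕ) + 1 := by
        rw [Fin.val_add, Fin.coe_ofNat_eq_mod, Nat.add_mod_mod, Nat.mod_eq_of_lt h]
      simp only [d, e, Finset.prod_range_succ, R, hof]
      field_simp [hr i]
    · have hm : (i : ℕ) + 1 = m := by have := i.2; omega
      have e : ((i + 1 : Fin m) : ℕ) = 0 := by
        rw [Fin.val_add, Fin.coe_ofNat_eq_mod, Nat.add_mod_mod, hm, Nat.mod_self]
      have h1 : ∏ k ∈ Finset.range m, R k = 1 := by
        rw [← Fin.prod_univ_eq_prod_range]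
        simp only [R, hof, Finset.prod_div_distrib, hprod]
        exact div_self (Finset.prod_ne_zero_iff.2 fun k _ => hr' k)
      rw [← hm, Finset.prod_range_succ] at h1
      simp only [d, e, Finset.range_zero, Finset.prod_empty, one_mul]
      simp only [R, hof] at h1
      field_simp [hr i] at h1
      linear_combination -h1
  have hstep' : ∀ i : Fin m, s' i * d (i + 1) = d i * s i := by
    intro i
    refine mul_left_cancel₀ (hr i) ?_
    linear_combination s' i * hstep i - d i * hrs i
  have key : cycM a r' s' t * Matrix.diagonal d = Matrix.diagonal d * cycM a r s t := by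
    ext i j
    rw [Matrix.mul_diagonal, Matrix.diagonal_mul]
    simp only [cycM, Matrix.of_apply, add_mul, mul_add, ite_mul, zero_mul, mul_ite, mul_zero]
    congr 1
    · congr 1
      · by_cases h : i = j
        · subst h; simp [mul_comm]
        · simp [h]
      · by_cases h : i = j + 1
        · subst h; simp only [if_true]; linear_combination -t * hstep j
        · simp [h]
    · by_cases h : j = i + 1
      · subst h; simp only [if_true]; linear_combination t * hstep' i
      · simp [h]
  have := congrArg Matrix.det key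
  rw [Matrix.det_mul, Matrix.det_mul, Matrix.det_diagonal, mul_comm (∏ i, d i)] at this
  exact (mul_right_cancel₀ (Finset.prod_ne_zero_iff.2 fun i _ => hd0 i) this).symm

end Field

section Degree
open MvPolynomial

theorem totalDegree_det_le {σ K n : Type*} [CommRing K] [Fintype n] [DecidableEq n]
    (M : Matrix n n (MvPolynomial σ K)) (h : ∀ i j, (M i j).totalDegree ≤ 1) :
    M.det.totalDegree ≤ Fintype.card n := by
  rw [Matrix.det_apply']
  refine totalDegree_finsetSum_le fun π _ => ?_
  refine (totalDegree_mul _ _).trans ?_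
  have h0 : totalDegree ((((Equiv.Perm.sign π : ℤˣ) : ℤ) : MvPolynomial σ K)) = 0 := by
    rw [← map_intCast (C : K →+* MvPolynomial σ K), totalDegree_C]
  rw [h0, zero_add]
  refine (totalDegree_finsetProd _ _).trans ?_
  refine (Finset.sum_le_sum fun i _ => h (π i) i).trans ?_
  simp

/-- A form of small degree that takes values in the small field has a nontrivial zero. -/
theorem exists_zero_of_values {K A σ : Type*} [Field K] [Fintype K] [CommRing A] [Algebra K A] [Fintype σ]
    (P : MvPolynomial σ A) (hdeg : P.totalDegree < Fintype.card σ) (π : A →ₗ[K] K)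
    (hπ : ∀ y : K, π (algebraMap K A y) = y)
    (hval : ∀ x : σ → K, ∃ y : K, algebraMap K A y = eval (fun i => algebraMap K A (x i)) P)
    (h0 : eval (fun _ => (0 : A)) P = 0) :
    ∃ x : σ → K, x ≠ 0 ∧ eval (fun i => algebraMap K A (x i)) P = 0 := by
  classical
  let f : MvPolynomial σ K := ∑ s ∈ P.support, monomial s (π (coeff s P))
  have hf : f.totalDegree ≤ P.totalDegree := totalDegree_finsetSum_le fun s hs => by
    refine (totalDegree_monomial_le _ _).trans ?_
    exact le_totalDegree hs
  have he : ∀ x : σ → K, algebraMap K A (eval x f) = eval (fun i => algebraMap K A (x i)) P := by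
    intro x
    obtain ⟨y, hy⟩ := hval x
    have h1 : eval x f = π (eval (fun i => algebraMap K A (x i)) P) := by
      simp only [f, eval_sum]
      rw [eval_eq, map_sum]
      refine Finset.sum_congr rfl fun s _ => ?_
      rw [eval_monomial]
      simp only [← map_pow, ← map_prod]
      rw [show coeff s P * algebraMap K A (∏ i ∈ s.support, x i ^ s i) =
        (∏ i ∈ s.support, x i ^ s i) • coeff s P by rw [Algebra.smul_def, mul_comm], map_smul, smul_eq_mul,
        mul_comm]
      rfl
    rw [h1, ← hy, hπ]
  obtain ⟨p, hp⟩ := CharP.exists K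
  have := Fact.mk (CharP.char_is_prime K p)
  have hd := char_dvd_card_solutions p (f := f) (hf.trans_lt hdeg)
  have h00 : eval (0 : σ → K) f = 0 := by
    have := he 0
    simp only [Pi.zero_apply, map_zero] at this
    rw [h0] at this
    by_cases hA : Nontrivial A
    · exact (map_eq_zero (algebraMap K A)).1 this
    · rw [not_nontrivial_iff_subsingleton] at hA
      obtain ⟨y, hy⟩ := hval 0
      have h3 : eval (0 : σ → K) f = π (algebraMap K A (eval (0 : σ → K) f)) := (hπ _).symm
      rw [h3, this, map_zero]
  have hpos : 0 < Fintype.card { x : σ → K // eval x f = 0 } := Fintype.card_pos_iff.2 ⟨⟨0, h00⟩⟩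
  have h2 : 1 < Fintype.card { x : σ → K // eval x f = 0 } :=
    lt_of_lt_of_le (Fact.out : p.Prime).one_lt (Nat.le_of_dvd hpos hd)
  obtain ⟨⟨x, hx⟩, hne⟩ := Fintype.exists_ne_of_one_lt_card h2 ⟨0, h00⟩
  refine ⟨x, fun e => hne (Subtype.ext e), ?_⟩
  rw [← he, hx, map_zero]

end Degree

end CfsgLib.LocalEven.SpreadField
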