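import Mathlib
import Cfsg.Agent.Lib.LocalEven.PushUp.HuaField

/-!
A largest commutative subfield inside an additive family of units with inverse-closure.
-/

set_option autoImplicit false
set_option linter.style.haveILetI false

namespace CfsgLib.LocalEven.SpreadField

open CfsgLib.LocalEven.PushUp

universe u

variable {R : Type u} [Ring R] [Nontrivial R] [Finite R] {A B : AddSubgroup R}

omit [Finite R] [Nontrivial R] in
theorem isUnit_of_mem (h : InvPair A B) {a : R} (ha : a ∈ A) (h0 : a ≠ 0) : IsUnit a := by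
  obtain ⟨b, -, h1, h2⟩ := h.left a ha h0
  exact ⟨⟨a, b, h1, h2⟩, rfl⟩

omit [Finite R] in
theorem pow_mem (h : InvPair A B) {a : R} (ha : a ∈ A) : ∀ n : ℕ, a ^ n ∈ A
  | 0 => by simpa using h.one_mem
  | 1 => by simpa using ha
  | n + 2 => by
    rw [pow_succ, pow_succ']
    exact h.triple_mem ha (pow_mem h ha n)

theorem mul_mem_of_commute (h : InvPair A B) {p : ℕ} (hp : p.Prime) (hexp : ∀ r : R, p • r = 0) {a b : R}
    (ha : a ∈ A) (hb : b ∈ A) (hab : Commute a b) : a * b ∈ A := by
  classical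
  rcases hp.eq_two_or_odd with rfl | hodd
  · by_cases h0 : a = 0
    · simp [h0]
    have h2 : ∀ r : R, r + r = 0 := fun r => by rw [← two_nsmul]; exact hexp r
    have hu := isUnit_of_mem h ha h0
    have hfin : IsOfFinOrder a := isOfFinOrder_iff_pow_eq_one.2 ⟨orderOf hu.unit, orderOf_pos _, by
      have := congrArg Units.val (pow_orderOf_eq_one hu.unit)
      rwa [Units.val_pow_eq_pow_val, Units.val_one, IsUnit.unit_spec] at this⟩
    obtain ⟨k, hk⟩ : Odd (orderOf a) := by
      by_contra hev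
      rw [Nat.not_odd_iff_even] at hev
      obtain ⟨k, hk⟩ := hev
      have hpos := hfin.orderOf_pos
      have e : (a ^ k - 1) * (a ^ k - 1) = 0 := by
        rw [mul_sub, sub_mul, one_mul, mul_one, ← pow_add, ← hk, pow_orderOf_eq_one]
        rw [show (1 - a ^ k - (a ^ k - 1)) = (1 + 1) - (a ^ k + a ^ k) by abel, h2, h2, sub_zero]
      have hne : a ^ k - 1 ≠ 0 := fun e0 =>
        pow_ne_one_of_lt_orderOf (show k ≠ 0 by omega) (show k < orderOf a by omega) (sub_eq_zero.1 e0)
      have hu' := isUnit_of_mem h (A.sub_mem (pow_mem h ha k) h.one_mem) hne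
      exact hne (hu'.mul_right_eq_zero.1 e)
    have hc : a ^ (k + 1) * a ^ (k + 1) = a := by
      rw [← pow_add, show k + 1 + (k + 1) = orderOf a + 1 by omega, pow_succ, pow_orderOf_eq_one, one_mul]
    rw [← hc, mul_assoc, (hab.pow_left (k + 1)).eq, ← mul_assoc]
    exact h.triple_mem (pow_mem h ha _) hb
  · have hsq : ∀ x ∈ A, x * x ∈ A := fun x hx => by simpa using h.triple_mem hx h.one_mem
    have e : a * b + a * b ∈ A := by
      have h1 := A.sub_mem (A.sub_mem (hsq _ (A.add_mem ha hb)) (hsq a ha)) (hsq b hb)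
      rwa [show (a + b) * (a + b) - a * a - b * b = a * b + b * a by noncomm_ring, ← hab.eq] at h1
    have h1 : ((p + 1) / 2) • (a * b + a * b) = a * b := by
      rw [← two_nsmul, ← mul_nsmul', show (p + 1) / 2 * 2 = p + 1 by omega, succ_nsmul, hexp, zero_add]
    exact h1 ▸ A.nsmul_mem e _

/-- A commutative subfield inside the family, equal to its own centraliser in the family. -/
theorem exists_maximal_field (h : InvPair A B) {p : ℕ} (hp : p.Prime) (hexp : ∀ r : R, p • r = 0) :
    ∃ (F : Type u) (_ : Field F) (_ : Fintype F) (ι : F →+* R),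
      (∀ e, ι e ∈ A) ∧ ∀ x ∈ A, (∀ e, Commute x (ι e)) → ∃ e, ι e = x := by
  classical
  haveI : Finite (Subring R) := Finite.of_injective (fun S : Subring R => (S : Set R)) SetLike.coe_injective
  let P : Subring R → Prop := fun S => (∀ x ∈ S, x ∈ A) ∧ ∀ x ∈ S, ∀ y ∈ S, Commute x y
  have hbot : P ⊥ := by
    refine ⟨fun x hx => ?_, fun x hx y hy => ?_⟩
    · obtain ⟨n, rfl⟩ := Subring.mem_bot.1 hx
      simpa using A.zsmul_mem h.one_mem n
    · obtain ⟨n, rfl⟩ := Subring.mem_bot.1 hx
      exact Int.cast_commute n y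
  obtain ⟨E, hE⟩ := Set.Finite.exists_maximal (Set.toFinite {S : Subring R | P S}) ⟨⊥, hbot⟩
  obtain ⟨hEA, hEc⟩ : P E := hE.1
  letI : CommRing ↥E := { (inferInstance : Ring ↥E) with mul_comm := fun x y => Subtype.ext (hEc x x.2 y y.2) }
  haveI : Nontrivial ↥E := ⟨0, 1, fun e => zero_ne_one (congrArg Subtype.val e)⟩
  haveI : NoZeroDivisors ↥E := ⟨fun {x y} hxy => by
    by_cases hx : x = 0
    · exact Or.inl hx
    · refine Or.inr (Subtype.ext ((isUnit_of_mem h (hEA x x.2) fun e => hx (Subtype.ext e)).mul_right_eq_zero.1 ?_))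
      exact congrArg Subtype.val hxy⟩
  haveI : IsDomain ↥E := NoZeroDivisors.to_isDomain _
  haveI : Finite ↥E := Subtype.finite
  refine ⟨↥E, (Finite.isDomain_to_isField ↥E).toField, Fintype.ofFinite _, E.subtype, fun e => hEA e e.2, ?_⟩
  intro x hx hcomm
  let E' := Subring.closure ((E : Set R) ∪ {x})
  have hgc : ∀ y ∈ ((E : Set R) ∪ {x}), ∀ z ∈ ((E : Set R) ∪ {x}), Commute y z := by
    rintro y (hy | rfl) z (hz | rfl)
    · exact hEc y hy z hz
    · exact (hcomm ⟨y, hy⟩).symm
    · exact hcomm ⟨z, hz⟩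
    · exact Commute.refl _
  have h1 : E' ≤ Subring.centralizer ((E : Set R) ∪ {x}) :=
    Subring.closure_le.2 fun y hy => Subring.mem_centralizer_iff.2 fun z hz => hgc z hz y hy
  have h2 : ∀ y ∈ E', ∀ z ∈ E', Commute y z := fun y hy z hz => by
    have h3 : E' ≤ Subring.centralizer (E' : Set R) :=
      Subring.closure_le.2 fun w hw => Subring.mem_centralizer_iff.2 fun v hv =>
        (Subring.mem_centralizer_iff.1 (h1 hv) w hw).symm
    exact (Subring.mem_centralizer_iff.1 (h3 hz) y hy)
  have h3 : ∀ y ∈ E', y ∈ A := by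
    intro y hy
    induction hy using Subring.closure_induction with
    | mem y hy =>
      rcases hy with hy | rfl
      exacts [hEA y hy, hx]
    | zero => exact A.zero_mem
    | one => exact h.one_mem
    | add y z _ _ iy iz => exact A.add_mem iy iz
    | neg y _ iy => exact A.neg_mem iy
    | mul y z hy' hz' iy iz => exact mul_mem_of_commute h hp hexp iy iz (h2 y hy' z hz')
  have hle : E ≤ E' := fun y hy => Subring.subset_closure (Or.inl hy)
  exact ⟨⟨x, hE.2 ⟨h3, h2⟩ hle (Subring.subset_closure (Or.inr rfl))⟩, rfl⟩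

end CfsgLib.LocalEven.SpreadField
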