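import Cfsg.Agent.Lib.LocalEven.SpreadField.Decomp

/-!
A member of the family with two opposite twists: the products of the parts and the powers.
-/

set_option autoImplicit false
set_option linter.style.haveILetI false
set_option linter.unusedSectionVars false

namespace CfsgLib.LocalEven.SpreadField

open Polynomial
open CfsgLib.LocalEven.PushUp

variable {R : Type*} [Ring R] [Nontrivial R] [Finite R] {A B : AddSubgroup R}
variable {F : Type*} [Field F] [Fintype F] {ι : F →+* R} {p d : ℕ} [Fact p.Prime] [CharP F p] {a₀ : F}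

theorem Phi_add (a₀ : F) (x y : R) (f : F[X]) :
    Phi (ι := ι) a₀ (x + y) f = Phi (ι := ι) a₀ x f + Phi (ι := ι) a₀ y f := by
  simpa [Fin.sum_univ_two] using Phi_sum (ι := ι) (a₀ := a₀) (Finset.univ : Finset (Fin 2)) ![x, y] f

theorem iota_cancel {e : F} {y : R} (h : ι e * y = 0) (hy : y ≠ 0) : e = 0 := by
  by_contra he
  exact hy (((isUnit_iff_ne_zero.2 he).map ι).mul_right_eq_zero.1 h)

theorem iota_isUnit {e : F} (he : e ≠ 0) : IsUnit (ι e) := (isUnit_iff_ne_zero.2 he).map ι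

/-- Semilinear of a twist fixing the field means commuting with it. -/
theorem Comp.commute (hg : Gen p d a₀) {k : ℕ} (hk : k % d = 0) {y : R} (hy : Comp ι p k y) (e : F) :
    Commute y (ι e) := by
  have h := (hy.congr hg.card (l := 0) (by simpa using hk)) e
  rwa [pow_zero, pow_one] at h

/-- `y` is killed by the projection onto the trivial twist. -/
def Off (ι : F →+* R) (p d : ℕ) [Fact p.Prime] [CharP F p] (a₀ : F) (y : R) : Prop :=
  Psi (ι := ι) p a₀ (pairPoly p d a₀ 0) y = 0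

theorem off_of_comp (hg : Gen p d a₀) {l : ℕ} (hl : l % d ≠ 0) {y : R} (hy : Comp ι p l y) : Off ι p d a₀ y := by
  letI := ZMod.algebra F p
  have h := hy.congr hg.card (l := l % d) (by rw [Nat.mod_mod])
  unfold Off
  rw [Psi_comp h, pairPoly_zero (Nat.mod_lt _ hg.pos) hl (by rwa [add_zero, Nat.mod_mod]), map_zero, zero_mul]

theorem Off.add {x y : R} (hx : Off ι p d a₀ x) (hy : Off ι p d a₀ y) : Off ι p d a₀ (x + y) := by
  unfold Off at *; rw [map_add, hx, hy, add_zero]

theorem Off.neg {x : R} (hx : Off ι p d a₀ x) : Off ι p d a₀ (-x) := by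
  unfold Off at *; rw [map_neg, hx, neg_zero]

theorem off_zero : Off ι p d a₀ (0 : R) := map_zero _

/-- The trivial twist part of a member lies in the field. -/
theorem comp_zero_mem (h : InvPair A B) (hιA : ∀ e, ι e ∈ A)
    (hmax : ∀ x ∈ A, (∀ e, Commute x (ι e)) → ∃ e, ι e = x) (hg : Gen p d a₀) {z r : R}
    (hz : Comp ι p 0 z) (hr : Off ι p d a₀ r) (hzr : z + r ∈ A) : ∃ e, ι e = z := by
  letI := ZMod.algebra F p
  set v := aeval (a₀ * a₀ ^ p ^ 0) (pairPoly p d a₀ 0) with hv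
  have hv0 : v ≠ 0 := pairPoly_ne (k := 0) hg hg.pos (Or.inl rfl)
  have h1 := Psi_mem (p := p) (a₀ := a₀) h hιA hzr (pairPoly p d a₀ 0)
  rw [map_add, hr, add_zero, Psi_comp hz, ← hv] at h1
  obtain ⟨e, he⟩ := hmax _ h1 (fun e => (hz.left_mul v).commute hg (Nat.zero_mod d) e)
  exact ⟨v⁻¹ * e, by rw [map_mul, he, ← mul_assoc, ← map_mul, inv_mul_cancel₀ hv0, map_one, one_mul]⟩

/-- Two opposite twists `w`, `w'` with sum in the family, their products in the field. -/
structure Pair (ι : F →+* R) (A : AddSubgroup R) (p d j k : ℕ) (w w' : R) (u u' : F) : Prop where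
  comp : Comp ι p j w
  comp' : Comp ι p k w'
  inv : (j + k) % d = 0
  nz : j % d ≠ 0
  nz2 : (j + j) % d ≠ 0
  mem : w + w' ∈ A
  prod : w * w' = ι u
  prod' : w' * w = ι u'
  notNil : ∀ n, w ^ n ≠ 0

/-- The two products lie in the field. -/
theorem prods_mem (h : InvPair A B) (hιA : ∀ e, ι e ∈ A)
    (hmax : ∀ x ∈ A, (∀ e, Commute x (ι e)) → ∃ e, ι e = x) (hg : Gen p d a₀) {j k : ℕ} {w w' : R}
    (hw : Comp ι p j w) (hw' : Comp ι p k w') (hjk : (j + k) % d = 0) (hk : (j + j) % d ≠ 0)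
    (hb : w + w' ∈ A) : (∃ u, ι u = w * w') ∧ ∃ u', ι u' = w' * w := by
  have hkk : (k + k) % d ≠ 0 := fun h0 => hk (by
    have h1 : d ∣ (j + k) + (j + k) := Nat.dvd_add (Nat.dvd_of_mod_eq_zero hjk) (Nat.dvd_of_mod_eq_zero hjk)
    rw [show (j + k) + (j + k) = (k + k) + (j + j) by omega] at h1
    exact Nat.mod_eq_zero_of_dvd ((Nat.dvd_add_right (Nat.dvd_of_mod_eq_zero h0)).1 h1)) |> id
  have hcw : Comp ι p 0 (w * w') := (hw.mul hw').congr hg.card (by rw [add_comm, hjk, Nat.zero_mod])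
  have hcw' : Comp ι p 0 (w' * w) := (hw'.mul hw).congr hg.card (by rw [hjk, Nat.zero_mod])
  have key : ∀ e : F, ∃ z, ι z = ι (e ^ p ^ j) * (w * w') + ι (e ^ p ^ k) * (w' * w) := by
    intro e
    refine comp_zero_mem h hιA hmax hg ((hcw.left_mul _).add (hcw'.left_mul _))
      (r := ι (e ^ p ^ j) * (w * w) + ι (e ^ p ^ k) * (w' * w'))
      ((off_of_comp hg hk ((hw.mul hw).left_mul _)).add (off_of_comp hg hkk ((hw'.mul hw').left_mul _))) ?_
    have := h.triple_mem hb (hιA e)
    rw [show (w + w') * ι e * (w + w') = (w * ι e + w' * ι e) * (w + w') by rw [add_mul w w'], hw e, hw' e] at this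
    convert this using 1
    noncomm_ring
  obtain ⟨β, hβ⟩ := key 1
  obtain ⟨γ, hγ⟩ := key a₀
  simp only [one_pow, map_one, one_mul] at hβ
  set c := a₀ ^ p ^ j - a₀ ^ p ^ k with hc
  have hc0 : c ≠ 0 := by
    intro e
    rw [hc, sub_eq_zero, ← pow_period hg.card a₀ j, ← pow_period hg.card a₀ k] at e
    have := frob_inj hg (Nat.mod_lt _ hg.pos) (Nat.mod_lt _ hg.pos) e
    refine hk ?_
    rw [Nat.add_mod]
    nth_rewrite 2 [this]
    rw [← Nat.add_mod]
    exact hjk
  have hu : ι (c⁻¹ * (γ - a₀ ^ p ^ k * β)) = w * w' := by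
    rw [map_mul, map_sub ι γ, map_mul, hγ, hβ]
    rw [show ι (a₀ ^ p ^ j) * (w * w') + ι (a₀ ^ p ^ k) * (w' * w) - ι (a₀ ^ p ^ k) * (w * w' + w' * w) =
      (ι (a₀ ^ p ^ j) - ι (a₀ ^ p ^ k)) * (w * w') by noncomm_ring, ← map_sub, ← hc, ← mul_assoc, ← map_mul,
      inv_mul_cancel₀ hc0, map_one, one_mul]
  exact ⟨⟨_, hu⟩, β - c⁻¹ * (γ - a₀ ^ p ^ k * β), by rw [map_sub, hu, hβ, add_sub_cancel_left]⟩

namespace Pair

variable {j k : ℕ} {w w' : R} {u u' : F}

theorem w_ne (P : Pair ι A p d j k w w' u u') : w ≠ 0 := fun h => P.notNil 1 (by rw [pow_one, h])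

theorem twist_u (P : Pair ι A p d j k w w' u u') : u' ^ p ^ j = u := by
  refine sub_eq_zero.1 (iota_cancel (ι := ι) (y := w) ?_ P.w_ne)
  rw [map_sub, sub_mul, ← P.comp u', ← P.prod', ← P.prod, mul_assoc, sub_self]

/-- The span of the shorter powers. -/
def low (ι : F →+* R) (w w' : R) (n : ℕ) : AddSubgroup R :=
  AddSubgroup.closure {x | ∃ (e : F) (i : ℕ), i < n ∧ (x = ι e * w ^ i ∨ x = ι e * w' ^ i)}

theorem low_gen {n i : ℕ} (hi : i < n) (e : F) : ι e * w ^ i ∈ low ι w w' n :=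
  AddSubgroup.subset_closure ⟨e, i, hi, Or.inl rfl⟩

theorem low_gen' {n i : ℕ} (hi : i < n) (e : F) : ι e * w' ^ i ∈ low ι w w' n :=
  AddSubgroup.subset_closure ⟨e, i, hi, Or.inr rfl⟩

theorem low_mul (P : Pair ι A p d j k w w' u u') {n : ℕ} {r : R} (hr : r ∈ low ι w w' n) :
    w * r ∈ low ι w w' (n + 1) ∧ w' * r ∈ low ι w w' (n + 1) := by
  induction hr using AddSubgroup.closure_induction with
  | mem x hx =>
    obtain ⟨e, i, hi, rfl | rfl⟩ := hx
    · constructor
      · rw [← mul_assoc, P.comp e, mul_assoc, ← pow_succ']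
        exact low_gen (by omega) _
      · rw [← mul_assoc, P.comp' e, mul_assoc]
        cases i with
        | zero =>
          have h1 := low_gen' (ι := ι) (w := w) (w' := w') (show 1 < n + 1 by omega) (e ^ p ^ k)
          rw [pow_one] at h1
          rwa [pow_zero, mul_one]
        | succ i =>
          rw [pow_succ', ← mul_assoc w', P.prod', ← mul_assoc, ← map_mul]
          exact low_gen (by omega) _
    · constructor
      · rw [← mul_assoc, P.comp e, mul_assoc]
        cases i with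
        | zero =>
          have h1 := low_gen (ι := ι) (w := w) (w' := w') (show 1 < n + 1 by omega) (e ^ p ^ j)
          rw [pow_one] at h1
          rwa [pow_zero, mul_one]
        | succ i =>
          rw [pow_succ', ← mul_assoc w, P.prod, ← mul_assoc, ← map_mul]
          exact low_gen' (by omega) _
      · rw [← mul_assoc, P.comp' e, mul_assoc, ← pow_succ']
        exact low_gen' (by omega) _
  | zero => simp [zero_mem]
  | add x y _ _ hx hy => rw [mul_add, mul_add]; exact ⟨add_mem hx.1 hy.1, add_mem hx.2 hy.2⟩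
  | neg x _ hx => rw [mul_neg, mul_neg]; exact ⟨neg_mem hx.1, neg_mem hx.2⟩

theorem pow_eq (P : Pair ι A p d j k w w' u u') : ∀ n : ℕ, 1 ≤ n →
    ∃ r ∈ low ι w w' n, (w + w') ^ n = w ^ n + w' ^ n + r
  | 0, h => absurd h (by omega)
  | 1, _ => ⟨0, zero_mem _, by simp⟩
  | n + 2, _ => by
    obtain ⟨r, hr, e⟩ := pow_eq P (n + 1) (by omega)
    refine ⟨w * w' ^ (n + 1) + w' * w ^ (n + 1) + (w * r + w' * r), ?_, ?_⟩
    · refine add_mem (add_mem ?_ ?_) (add_mem (low_mul P hr).1 (low_mul P hr).2)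
      · rw [pow_succ', ← mul_assoc, P.prod]
        exact low_gen' (by omega) _
      · rw [pow_succ', ← mul_assoc, P.prod']
        exact low_gen (by omega) _
    · rw [pow_succ' (w + w'), e, pow_succ' w (n + 1), pow_succ' w' (n + 1)]
      noncomm_ring

theorem w_pow_mul (P : Pair ι A p d j k w w' u u') :
    ∀ n : ℕ, w ^ n * w' ^ n = ι (∏ i ∈ Finset.range n, u ^ p ^ (i * j))
  | 0 => by simp
  | n + 1 => by
    rw [pow_succ, pow_succ', mul_assoc, ← mul_assoc w, P.prod, ← mul_assoc, P.comp.pow n u, mul_assoc,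
      w_pow_mul P n, Finset.prod_range_succ, map_mul, ← map_mul, ← map_mul, mul_comm]

theorem w'_pow_mul (P : Pair ι A p d j k w w' u u') (n : ℕ) :
    w' ^ (n + 1) * w = ι (u' ^ p ^ (n * k)) * w' ^ n := by
  rw [pow_succ, mul_assoc, P.prod', P.comp'.pow n u']

end Pair

end CfsgLib.LocalEven.SpreadField
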